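import Mathlib

/-!
# Combinatorial lemmas for the Verlinde sums (helper9)

`box r n` is the set of functions `Fin r → ℕ` with values `< n`.  The sorting lemma converts
a sum of a symmetric function over the box into `r!` times the sum over strictly decreasing tuples.
-/

set_option autoImplicit false

namespace Groth.Agent.H9.Verlinde

open Finset

variable {r : ℕ}

/-- functions `Fin r → ℕ` with values below `n` -/
def box (r n : ℕ) : Finset (Fin r → ℕ) := Fintype.piFinset fun _ => Finset.range n

theorem mem_box {n : ℕ} {f : Fin r → ℕ} : f ∈ box r n ↔ ∀ i, f i < n := by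
  simp [box, Fintype.mem_piFinset]

theorem comp_perm_mem_box {n : ℕ} {f : Fin r → ℕ} (σ : Equiv.Perm (Fin r)) :
    f ∘ σ ∈ box r n ↔ f ∈ box r n := by
  rw [mem_box, mem_box]
  constructor
  · intro h i
    simpa using h (σ⁻¹ i)
  · intro h i
    exact h (σ i)

section sort

variable {M : Type*} [AddCommMonoid M]

theorem sum_sort (n : ℕ) (G : (Fin r → ℕ) → M)
    (hsymm : ∀ (f : Fin r → ℕ) (σ : Equiv.Perm (Fin r)), G (f ∘ σ) = G f)
    (hinj : ∀ f : Fin r → ℕ, ¬ Function.Injective f → G f = 0) :
    ∑ f ∈ box r n, G f = (Nat.factorial r) • ∑ v ∈ (box r n).filter StrictAnti, G v := by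
  classical
  have h1 : ∑ f ∈ box r n, G f = ∑ f ∈ (box r n).filter Function.Injective, G f := by
    symm
    apply Finset.sum_filter_of_ne
    intro f _ hf
    by_contra h
    exact hf (hinj f h)
  rw [h1]
  have h2 : ∑ p ∈ ((box r n).filter StrictAnti) ×ˢ (Finset.univ : Finset (Equiv.Perm (Fin r))),
      G (p.1 ∘ p.2) = ∑ f ∈ (box r n).filter Function.Injective, G f := by
    apply Finset.sum_bij (fun p _ => p.1 ∘ p.2)
    · intro p hp
      rw [Finset.mem_product, Finset.mem_filter] at hp
      rw [Finset.mem_filter]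
      exact ⟨(comp_perm_mem_box p.2).2 hp.1.1, hp.1.2.injective.comp p.2.injective⟩
    · rintro ⟨v, σ⟩ hp ⟨v', σ'⟩ hp' heq
      rw [Finset.mem_product, Finset.mem_filter] at hp hp'
      simp only at heq
      have hv : v = v' := by
        have e1 : v = (v ∘ σ) ∘ (σ⁻¹ : Equiv.Perm (Fin r)) := by
          funext i; simp
        have e2 : v' = (v ∘ σ) ∘ (σ'⁻¹ : Equiv.Perm (Fin r)) := by
          rw [heq]; funext i; simp
        have a1 : Antitone ((v ∘ σ) ∘ (σ⁻¹ : Equiv.Perm (Fin r))) := by
          rw [← e1]; exact hp.1.2.antitone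
        have a2 : Antitone ((v ∘ σ) ∘ (σ'⁻¹ : Equiv.Perm (Fin r))) := by
          rw [← e2]; exact hp'.1.2.antitone
        rw [e1, e2]
        exact Tuple.unique_antitone a1 a2
      subst hv
      have hσ : σ = σ' := by
        ext i
        have := congrFun heq i
        exact congrArg Fin.val (hp.1.2.injective this)
      rw [hσ]
    · intro f hf
      rw [Finset.mem_filter] at hf
      let τ : Equiv.Perm (Fin r) := Tuple.sort f
      let π : Equiv.Perm (Fin r) := τ * Fin.revPerm
      have hmono : Monotone (f ∘ τ) := Tuple.monotone_sort f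
      have hanti : Antitone (f ∘ π) := by
        intro i j hij
        show f (τ (Fin.rev i)) ≥ f (τ (Fin.rev j))
        exact hmono (Fin.rev_le_rev.2 hij)
      have hsanti : StrictAnti (f ∘ π) :=
        hanti.strictAnti_of_injective (hf.2.comp π.injective)
      refine ⟨(f ∘ π, π⁻¹), ?_, ?_⟩
      · rw [Finset.mem_product, Finset.mem_filter]
        exact ⟨⟨(comp_perm_mem_box π).2 hf.1, hsanti⟩, Finset.mem_univ _⟩
      · funext i
        simp
    · intro p _
      rfl
  rw [← h2, Finset.sum_product]
  rw [Finset.smul_sum]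
  refine Finset.sum_congr rfl fun v _ => ?_
  simp only [hsymm]
  rw [Finset.sum_const, Finset.card_univ, Fintype.card_perm, Fintype.card_fin]

end sort

section shift

variable {M : Type*} [AddCommMonoid M]

/-- the staircase `ρ_i = r - 1 - i` -/
def rho (r : ℕ) : Fin r → ℕ := fun i => r - 1 - (i : ℕ)

theorem strictAnti_gap {lam : Fin r → ℕ} (h : StrictAnti lam) :
    ∀ (d : ℕ) (i j : Fin r), (j : ℕ) = (i : ℕ) + d → lam j + d ≤ lam i := by
  intro d
  induction d with
  | zero =>
    intro i j hij
    have : i = j := Fin.ext (by omega)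
    subst this
    simp
  | succ d ih =>
    intro i j hij
    have hi1 : (i : ℕ) + 1 < r := by have := j.2; omega
    let i' : Fin r := ⟨(i : ℕ) + 1, hi1⟩
    have h1 := ih i' j (by simp [i']; omega)
    have h2 : lam i' < lam i := h (by
      rw [Fin.lt_def]
      simp [i'])
    omega

theorem strictAnti_gap' {lam : Fin r → ℕ} (h : StrictAnti lam) {i j : Fin r} (hij : i ≤ j) :
    lam j + ((j : ℕ) - (i : ℕ)) ≤ lam i :=
  strictAnti_gap h _ i j (by have : (i : ℕ) ≤ j := hij; omega)

/-- the last-coordinate-zero predicate used in the statements -/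
def LastZero (f : Fin r → ℕ) : Prop := ∀ i : Fin r, (i : ℕ) = r - 1 → f i = 0

instance : DecidablePred (LastZero (r := r)) := fun f => by
  unfold LastZero
  infer_instance

theorem sum_shift (m : ℕ) (H : (Fin r → ℕ) → M) :
    ∑ μ ∈ (box r m).filter Antitone, H (fun i => μ i + rho r i) =
      ∑ lam ∈ (box r (m + r - 1)).filter StrictAnti, H lam := by
  classical
  apply Finset.sum_bij' (fun μ _ => fun i => μ i + rho r i) (fun lam _ => fun i => lam i - rho r i)
  · intro μ hμ
    rw [Finset.mem_filter, mem_box] at hμ ⊢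
    refine ⟨fun i => ?_, fun i j hij => ?_⟩
    · have := hμ.1 i
      have hi := i.2
      simp only [rho]
      omega
    · have h1 := hμ.2 hij.le
      have hij' : (i : ℕ) < j := hij
      have hj := j.2
      simp only [rho]
      omega
  · intro lam hlam
    rw [Finset.mem_filter, mem_box] at hlam ⊢
    refine ⟨fun i => ?_, fun i j hij => ?_⟩
    · have hr : 0 < r := lt_of_le_of_lt (Nat.zero_le _) i.2
      have h1 := strictAnti_gap' hlam.2 (show (⟨0, hr⟩ : Fin r) ≤ i from Fin.mk_le_of_le_val (Nat.zero_le _))
      have h2 := strictAnti_gap' hlam.2 (show i ≤ (⟨r - 1, by omega⟩ : Fin r) from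
        Fin.le_def.2 (by have := i.2; simp; omega))
      have h3 := hlam.1 ⟨0, hr⟩
      simp only [rho] at *
      omega
    · have hr : 0 < r := lt_of_le_of_lt (Nat.zero_le _) i.2
      have h1 := strictAnti_gap' hlam.2 hij
      have h2 := strictAnti_gap' hlam.2 (show j ≤ (⟨r - 1, by omega⟩ : Fin r) from
        Fin.le_def.2 (by have := j.2; simp; omega))
      have hij' : (i : ℕ) ≤ j := hij
      have hj := j.2
      simp only [rho] at *
      omega
  · intro μ _
    funext i
    simp
  · intro lam hlam
    rw [Finset.mem_filter, mem_box] at hlam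
    funext i
    have hr : 0 < r := lt_of_le_of_lt (Nat.zero_le _) i.2
    have h2 := strictAnti_gap' hlam.2 (show i ≤ (⟨r - 1, by omega⟩ : Fin r) from
      Fin.le_def.2 (by have := i.2; simp; omega))
    simp only [rho] at *
    omega
  · intro μ _
    rfl

theorem lastZero_add_rho (μ : Fin r → ℕ) : LastZero (fun i => μ i + rho r i) ↔ LastZero μ := by
  unfold LastZero rho
  constructor
  · intro h i hi
    have := h i hi
    simp only at this
    omega
  · intro h i hi
    have := h i hi
    simp only
    omega

theorem sum_shift_lastZero (m : ℕ) (H : (Fin r → ℕ) → M) :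
    ∑ μ ∈ (box r m).filter (fun μ => Antitone μ ∧ LastZero μ), H (fun i => μ i + rho r i) =
      ∑ lam ∈ (box r (m + r - 1)).filter (fun lam => StrictAnti lam ∧ LastZero lam), H lam := by
  classical
  have h := sum_shift m (fun lam => if LastZero lam then H lam else 0)
  simp only [lastZero_add_rho] at h
  rw [← Finset.filter_filter, ← Finset.filter_filter,
    Finset.sum_filter (s := (box r m).filter Antitone),
    Finset.sum_filter (s := (box r (m + r - 1)).filter StrictAnti)]
  exact h

/-- conversion from `Fin`-valued tuples to `ℕ`-valued tuples -/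
theorem sum_fin_eq (n : ℕ) (P : (Fin r → ℕ) → Prop) [DecidablePred P] (F : (Fin r → ℕ) → M) :
    ∑ v ∈ (Finset.univ : Finset (Fin r → Fin n)).filter (fun v => P (fun i => (v i : ℕ))),
        F (fun i => (v i : ℕ)) =
      ∑ w ∈ (box r n).filter P, F w := by
  apply Finset.sum_bij (fun (v : Fin r → Fin n) _ => fun i => (v i : ℕ))
  · intro v hv
    rw [Finset.mem_filter] at hv ⊢
    exact ⟨mem_box.2 fun i => (v i).2, hv.2⟩
  · intro v _ v' _ h
    funext i
    exact Fin.ext (congrFun h i)
  · intro w hw
    rw [Finset.mem_filter, mem_box] at hw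
    refine ⟨fun i => ⟨w i, hw.1 i⟩, ?_, rfl⟩
    rw [Finset.mem_filter]
    exact ⟨Finset.mem_univ _, hw.2⟩
  · intro v _
    rfl

theorem antitone_val_iff {n : ℕ} (μ : Fin r → Fin n) :
    Antitone (fun i => (μ i : ℕ)) ↔ Antitone μ := by
  constructor
  · intro h i j hij
    exact Fin.le_def.2 (h hij)
  · intro h i j hij
    exact Fin.le_def.1 (h hij)

theorem strictAnti_val_iff {n : ℕ} (v : Fin r → Fin n) :
    StrictAnti (fun i => (v i : ℕ)) ↔ StrictAnti v := by
  constructor
  · intro h i j hij
    exact Fin.lt_def.2 (h hij)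
  · intro h i j hij
    exact Fin.lt_def.1 (h hij)

end shift

end Groth.Agent.H9.Verlinde
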