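import Mathlib
import Groth.Agent.Lib.Helper9.Verlinde.Sort

/-!
# Cauchy–Binet in unordered form (helper9)
-/

set_option autoImplicit false

namespace Groth.Agent.H9.Verlinde

open Finset Equiv

variable {r : ℕ} {R : Type*} [CommRing R]

theorem prod_sum_box (n : ℕ) (g : Fin r → ℕ → R) :
    ∏ j, ∑ x ∈ Finset.range n, g j x = ∑ f ∈ box r n, ∏ j, g j (f j) := by
  unfold box
  rw [Finset.prod_univ_sum]

theorem cauchy_binet (n : ℕ) (A B : Fin r → ℕ → R) :
    ∑ f ∈ box r n, (Matrix.of fun i j => A i (f j)).det * (Matrix.of fun i j => B i (f j)).det =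
      (r.factorial : R) *
        (Matrix.of fun i i' : Fin r => ∑ x ∈ Finset.range n, A i x * B i' x).det := by
  classical
  set C : Matrix (Fin r) (Fin r) R :=
    Matrix.of fun i i' : Fin r => ∑ x ∈ Finset.range n, A i x * B i' x with hC
  -- expand
  have h1 : ∀ f : Fin r → ℕ,
      (Matrix.of fun i j => A i (f j)).det * (Matrix.of fun i j => B i (f j)).det =
        ∑ σ : Perm (Fin r), ∑ τ : Perm (Fin r),
          ((Perm.sign σ : ℤ) : R) * ((Perm.sign τ : ℤ) : R) *
            ∏ j, (A (σ j) (f j) * B (τ j) (f j)) := by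
    intro f
    rw [Matrix.det_apply', Matrix.det_apply', Finset.sum_mul_sum]
    refine Finset.sum_congr rfl fun σ _ => Finset.sum_congr rfl fun τ _ => ?_
    simp only [Matrix.of_apply]
    rw [Finset.prod_mul_distrib]
    ring
  simp only [h1]
  rw [Finset.sum_comm]
  have h2 : ∀ σ : Perm (Fin r),
      ∑ f ∈ box r n, ∑ τ : Perm (Fin r),
          ((Perm.sign σ : ℤ) : R) * ((Perm.sign τ : ℤ) : R) *
            ∏ j, (A (σ j) (f j) * B (τ j) (f j)) = C.det := by
    intro σ
    rw [Finset.sum_comm]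
    have h3 : ∀ τ : Perm (Fin r),
        ∑ f ∈ box r n, ((Perm.sign σ : ℤ) : R) * ((Perm.sign τ : ℤ) : R) *
            ∏ j, (A (σ j) (f j) * B (τ j) (f j)) =
          ((Perm.sign σ : ℤ) : R) * ((Perm.sign τ : ℤ) : R) * ∏ j, C (σ j) (τ j) := by
      intro τ
      rw [← Finset.mul_sum]
      congr 1
      rw [hC]
      simp only [Matrix.of_apply]
      rw [prod_sum_box]
    simp only [h3]
    -- reindex τ = π * σ
    rw [← Matrix.det_transpose, Matrix.det_apply']
    rw [← Equiv.sum_comp (Equiv.mulRight σ)]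
    refine Finset.sum_congr rfl fun π _ => ?_
    simp only [Equiv.coe_mulRight, Perm.sign_mul, Units.val_mul, Int.cast_mul, Matrix.transpose_apply]
    have hs : ((Perm.sign σ : ℤ) : R) * ((Perm.sign σ : ℤ) : R) = 1 := by
      rw [← Int.cast_mul, ← Units.val_mul]
      simp
    have hp : ∏ j, C (σ j) ((π * σ) j) = ∏ j, C j (π j) := by
      rw [← Equiv.prod_comp σ (fun j => C j (π j))]
      rfl
    rw [hp]
    calc ((Perm.sign σ : ℤ) : R) * (((Perm.sign π : ℤ) : R) * ((Perm.sign σ : ℤ) : R)) *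
          ∏ j, C j (π j)
        = (((Perm.sign σ : ℤ) : R) * ((Perm.sign σ : ℤ) : R)) * ((Perm.sign π : ℤ) : R) *
          ∏ j, C j (π j) := by ring
      _ = ((Perm.sign π : ℤ) : R) * ∏ j, C j (π j) := by rw [hs, one_mul]
  rw [Finset.sum_congr rfl fun σ _ => h2 σ, Finset.sum_const, Finset.card_univ, Fintype.card_perm,
    Fintype.card_fin, nsmul_eq_mul]

end Groth.Agent.H9.Verlinde
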