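import Mathlib
import Groth.Agent.Lib.Helper9.Verlinde.CauchyBinet

/-!
# Alternants at unimodular points (helper9)
-/

set_option autoImplicit false

namespace Groth.Agent.H9.Verlinde

open Finset Equiv ComplexConjugate

variable {r : ℕ}

/-- the alternant `det (z_j ^ λ_i)` -/
noncomputable def alt (z : Fin r → ℂ) (lam : Fin r → ℕ) : ℂ :=
  (Matrix.of fun i j : Fin r => z j ^ lam i).det

theorem alt_comp_perm (z : Fin r → ℂ) (lam : Fin r → ℕ) (σ : Perm (Fin r)) :
    alt z (lam ∘ σ) = ((Perm.sign σ : ℤ) : ℂ) * alt z lam := by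
  unfold alt
  have : (Matrix.of fun i j : Fin r => z j ^ (lam ∘ σ) i) =
      (Matrix.of fun i j : Fin r => z j ^ lam i).submatrix σ id := by
    ext i j
    simp
  rw [this, Matrix.det_permute]

theorem alt_eq_zero (z : Fin r → ℂ) {lam : Fin r → ℕ} (h : ¬ Function.Injective lam) :
    alt z lam = 0 := by
  unfold alt
  rw [Function.Injective] at h
  push_neg at h
  obtain ⟨i, j, hij, hne⟩ := h
  apply Matrix.det_zero_of_row_eq hne
  funext l
  simp [hij]

theorem conj_alt (z : Fin r → ℂ) (lam : Fin r → ℕ) :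
    conj (alt z lam) = alt (fun j => conj (z j)) lam := by
  unfold alt
  rw [RingHom.map_det]
  congr 1
  ext i j
  simp

theorem sign_mul_self (σ : Perm (Fin r)) :
    ((Perm.sign σ : ℤ) : ℂ) * ((Perm.sign σ : ℤ) : ℂ) = 1 := by
  rw [← Int.cast_mul, ← Units.val_mul]
  simp

theorem conj_sign (σ : Perm (Fin r)) : conj ((Perm.sign σ : ℤ) : ℂ) = ((Perm.sign σ : ℤ) : ℂ) := by
  simp

theorem alt_comp_perm_col (z : Fin r → ℂ) (lam : Fin r → ℕ) (σ : Perm (Fin r)) :
    alt (z ∘ σ) lam = ((Perm.sign σ : ℤ) : ℂ) * alt z lam := by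
  unfold alt
  have : (Matrix.of fun i j : Fin r => (z ∘ σ) j ^ lam i) =
      (Matrix.of fun i j : Fin r => z j ^ lam i).submatrix id σ := by
    ext i j
    simp
  rw [this, Matrix.det_permute']

theorem alt_eq_zero_col {z : Fin r → ℂ} (lam : Fin r → ℕ) (h : ¬ Function.Injective z) :
    alt z lam = 0 := by
  unfold alt
  rw [Function.Injective] at h
  push_neg at h
  obtain ⟨i, j, hij, hne⟩ := h
  apply Matrix.det_zero_of_column_eq hne
  intro l
  simp [hij]

theorem alt_smul (u : ℂ) (z : Fin r → ℂ) (lam : Fin r → ℕ) :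
    alt (fun j => u * z j) lam = u ^ (∑ i, lam i) * alt z lam := by
  unfold alt
  have : (Matrix.of fun i j : Fin r => (u * z j) ^ lam i) =
      Matrix.of fun i j : Fin r => (u ^ lam i) * (Matrix.of fun i j : Fin r => z j ^ lam i) i j := by
    ext i j
    simp [mul_pow]
  rw [this, Matrix.det_mul_column, Finset.prod_pow_eq_pow_sum]

/-- the symmetric function `|alt|^2`-type product -/
theorem altmul_symm (z w : Fin r → ℂ) (lam : Fin r → ℕ) (σ : Perm (Fin r)) :
    alt z (lam ∘ σ) * alt w (lam ∘ σ) = alt z lam * alt w lam := by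
  rw [alt_comp_perm, alt_comp_perm]
  calc ((Perm.sign σ : ℤ) : ℂ) * alt z lam * (((Perm.sign σ : ℤ) : ℂ) * alt w lam)
      = (((Perm.sign σ : ℤ) : ℂ) * ((Perm.sign σ : ℤ) : ℂ)) * (alt z lam * alt w lam) := by ring
    _ = alt z lam * alt w lam := by rw [sign_mul_self, one_mul]

/-- sum over strictly decreasing exponents via Cauchy–Binet -/
theorem sum_alt_mul (n : ℕ) (z w : Fin r → ℂ) :
    ∑ lam ∈ (box r n).filter StrictAnti, alt z lam * alt w lam =
      (Matrix.of fun i i' : Fin r => ∑ x ∈ Finset.range n, z i ^ x * w i' ^ x).det := by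
  have h1 := sum_sort n (fun lam => alt z lam * alt w lam) (fun f σ => altmul_symm z w f σ)
    (fun f hf => by simp only [alt_eq_zero z hf, zero_mul])
  have h2 := cauchy_binet n (fun i x => z i ^ x) (fun i x => w i ^ x)
  have h3 : ∀ f : Fin r → ℕ, (Matrix.of fun i j : Fin r => z i ^ f j).det = alt z f := by
    intro f
    unfold alt
    rw [← Matrix.det_transpose]
    rfl
  have h4 : ∀ f : Fin r → ℕ, (Matrix.of fun i j : Fin r => w i ^ f j).det = alt w f := by
    intro f
    unfold alt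
    rw [← Matrix.det_transpose]
    rfl
  simp only [h3, h4] at h2
  rw [h1, nsmul_eq_mul] at h2
  have hfact : ((r.factorial : ℕ) : ℂ) ≠ 0 := by
    exact_mod_cast Nat.factorial_ne_zero r
  exact mul_left_cancel₀ hfact h2

section unimodular

variable {N : ℕ} {z : Fin r → ℂ}

theorem ne_zero_of_pow_eq_one {q : ℂ} (hN : 1 ≤ N) (hq : q ^ N = 1) : q ≠ 0 := by
  rintro rfl
  rw [zero_pow (by omega)] at hq
  exact zero_ne_one hq

theorem norm_eq_one_of_pow_eq_one {q : ℂ} (hN : 1 ≤ N) (hq : q ^ N = 1) : ‖q‖ = 1 := by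
  have h := congrArg norm hq
  rw [norm_pow, norm_one] at h
  exact (pow_eq_one_iff_of_nonneg (norm_nonneg q) (by omega)).1 h

theorem conj_eq_inv_of_pow_eq_one {q : ℂ} (hN : 1 ≤ N) (hq : q ^ N = 1) : conj q = q⁻¹ := by
  have h1 := norm_eq_one_of_pow_eq_one hN hq
  have h0 := ne_zero_of_pow_eq_one hN hq
  have h2 : q * conj q = 1 := by
    rw [Complex.mul_conj, Complex.normSq_eq_norm_sq, h1]
    simp
  exact eq_inv_of_mul_eq_one_right h2

theorem geom_root {q : ℂ} (hN : 1 ≤ N) (hq : q ^ N = 1) (hne : q ≠ 1) :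
    ∑ x ∈ Finset.range (N - 1), q ^ x = - q ^ (N - 1) := by
  have h1 : (∑ x ∈ Finset.range N, q ^ x) * (q - 1) = 0 := by
    rw [geom_sum_mul, hq, sub_self]
  have h2 : ∑ x ∈ Finset.range N, q ^ x = 0 := by
    rcases mul_eq_zero.1 h1 with h | h
    · exact h
    · exact absurd (sub_eq_zero.1 h) hne
  have h3 : N = (N - 1) + 1 := by omega
  rw [h3, Finset.sum_range_succ] at h2
  linear_combination h2

theorem gram_arith (r k : ℕ) (hr : 1 ≤ r) (hN : ((r : ℂ) + k) ≠ 0) :
    ((r : ℂ) + k) ^ r * (1 + -((r : ℂ) + k)⁻¹ * r) = (k : ℂ) * ((r : ℂ) + k) ^ (r - 1) := by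
  obtain ⟨m, rfl⟩ : ∃ m, r = m + 1 := ⟨r - 1, by omega⟩
  rw [Nat.add_sub_cancel, pow_succ]
  field_simp
  ring

/-- the Gram determinant of the truncated character matrix -/
theorem det_gram (k : ℕ) (hr : 1 ≤ r) (hz : ∀ j, z j ^ (r + k) = 1) (hinj : Function.Injective z) :
    (Matrix.of fun i i' : Fin r =>
      ∑ x ∈ Finset.range (r + k - 1), z i ^ x * (conj (z i')) ^ x).det =
      (k : ℂ) * ((r : ℂ) + k) ^ (r - 1) := by
  have hN : 1 ≤ r + k := by omega
  have hconj : ∀ j, conj (z j) = (z j)⁻¹ := fun j => conj_eq_inv_of_pow_eq_one hN (hz j)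
  have hz0 : ∀ j, z j ≠ 0 := fun j => ne_zero_of_pow_eq_one hN (hz j)
  have hNc : ((r : ℂ) + k) ≠ 0 := by
    have : (0 : ℝ) < (r : ℝ) + k := by positivity
    exact_mod_cast this.ne'
  have hentry : ∀ i i' : Fin r, ∑ x ∈ Finset.range (r + k - 1), z i ^ x * (conj (z i')) ^ x =
      (if i = i' then ((r : ℂ) + k) else 0) - conj (z i) * z i' := by
    intro i i'
    simp only [← mul_pow]
    by_cases h : i = i'
    · subst h
      rw [if_pos rfl, hconj, mul_inv_cancel₀ (hz0 i), inv_mul_cancel₀ (hz0 i)]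
      simp only [one_pow, Finset.sum_const, Finset.card_range, nsmul_eq_mul, mul_one]
      rw [Nat.cast_sub hN]
      push_cast
      ring
    · rw [if_neg h]
      have hq : (z i * conj (z i')) ^ (r + k) = 1 := by
        rw [mul_pow, hz, hconj, inv_pow, hz]
        simp
      have hne : z i * conj (z i') ≠ 1 := by
        rw [hconj]
        intro h1
        apply h
        apply hinj
        field_simp [hz0 i'] at h1
        exact h1
      rw [geom_root hN hq hne, zero_sub]
      congr 1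
      have h0 : z i * conj (z i') ≠ 0 := mul_ne_zero (hz0 i) (by rw [hconj]; exact inv_ne_zero (hz0 i'))
      have h5 : (z i * conj (z i')) ^ (r + k - 1) * (z i * conj (z i')) = 1 := by
        rw [← pow_succ]
        have : r + k - 1 + 1 = r + k := by omega
        rw [this, hq]
      have h6 : conj (z i) * z i' * (z i * conj (z i')) = 1 := by
        rw [hconj, hconj]
        field_simp [hz0 i, hz0 i']
      exact mul_right_cancel₀ h0 (h5.trans h6.symm)
  have hmat : (Matrix.of fun i i' : Fin r =>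
      ∑ x ∈ Finset.range (r + k - 1), z i ^ x * (conj (z i')) ^ x) =
      ((r : ℂ) + k) • ((1 : Matrix (Fin r) (Fin r) ℂ) +
        Matrix.replicateCol Unit (fun i => -((r : ℂ) + k)⁻¹ * conj (z i)) *
          Matrix.replicateRow Unit z) := by
    ext i i'
    rw [Matrix.of_apply, hentry]
    simp only [Matrix.smul_apply, Matrix.add_apply, Matrix.one_apply, Matrix.mul_apply,
      Matrix.replicateCol_apply, Matrix.replicateRow_apply, Finset.univ_unique,
      Finset.sum_singleton, smul_eq_mul]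
    split_ifs <;> field_simp <;> ring
  rw [hmat, Matrix.det_smul, Matrix.det_one_add_replicateCol_mul_replicateRow, Fintype.card_fin]
  have hdot : z ⬝ᵥ (fun i => -((r : ℂ) + k)⁻¹ * conj (z i)) = -((r : ℂ) + k)⁻¹ * r := by
    simp only [dotProduct]
    have : ∀ i, z i * (-((r : ℂ) + k)⁻¹ * conj (z i)) = -((r : ℂ) + k)⁻¹ := by
      intro i
      rw [hconj]
      field_simp [hz0 i]
    simp only [this, Finset.sum_const, Finset.card_univ, Fintype.card_fin, nsmul_eq_mul]
    ring
  rw [hdot]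
  exact gram_arith r k hr hNc

end unimodular

section dual

variable {z : Fin r → ℂ}

/-- the sign of the reversal permutation -/
noncomputable def eps (r : ℕ) : ℂ := ((Perm.sign (Fin.revPerm : Perm (Fin r)) : ℤ) : ℂ)

theorem eps_mul_self (r : ℕ) : eps r * eps r = 1 := sign_mul_self _

theorem conj_eps (r : ℕ) : conj (eps r) = eps r := conj_sign _

theorem alt_dual (hconj : ∀ j, conj (z j) = (z j)⁻¹) (hz0 : ∀ j, z j ≠ 0)
    (lam lam' : Fin r → ℕ) (m : ℕ) (h : ∀ i, lam' i + lam (Fin.rev i) = m) :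
    alt z lam' = eps r * (∏ j, z j) ^ m * conj (alt z lam) := by
  rw [conj_alt]
  unfold alt eps
  have hM : (Matrix.of fun i j : Fin r => z j ^ lam' i) =
      Matrix.of fun i j : Fin r => (z j ^ m) *
        ((Matrix.of fun i j : Fin r => (conj (z j)) ^ lam i).submatrix Fin.revPerm id) i j := by
    ext i j
    simp only [Matrix.of_apply, Matrix.submatrix_apply, id, Fin.revPerm_apply]
    rw [hconj, ← h i, pow_add, inv_pow]
    field_simp [hz0 j]
  rw [hM, Matrix.det_mul_row, Matrix.det_permute, Finset.prod_pow]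
  ring

theorem alt_rho (z : Fin r → ℂ) :
    alt z (rho r) = eps r * ∏ i : Fin r, ∏ j ∈ Finset.Ioi i, (z j - z i) := by
  rw [← Matrix.det_vandermonde, ← Matrix.det_transpose]
  unfold alt eps
  rw [← Matrix.det_permute]
  congr 1
  ext i j
  simp only [Matrix.of_apply, Matrix.submatrix_apply, id, Fin.revPerm_apply, Matrix.transpose_apply,
    Matrix.vandermonde_apply, rho, Fin.val_rev]
  congr 1
  have := i.2
  omega

theorem alt_rho_normSq (z : Fin r → ℂ) :
    alt z (rho r) * conj (alt z (rho r)) =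
      ∏ i : Fin r, ∏ j ∈ Finset.Ioi i, ((z j - z i) * conj (z j - z i)) := by
  rw [alt_rho, map_mul, conj_eps, map_prod]
  simp only [map_prod, Finset.prod_mul_distrib]
  calc eps r * (∏ i : Fin r, ∏ j ∈ Finset.Ioi i, (z j - z i)) *
        (eps r * ∏ i : Fin r, ∏ j ∈ Finset.Ioi i, conj (z j - z i))
      = (eps r * eps r) * ((∏ i : Fin r, ∏ j ∈ Finset.Ioi i, (z j - z i)) *
          ∏ i : Fin r, ∏ j ∈ Finset.Ioi i, conj (z j - z i)) := by ring
    _ = _ := by rw [eps_mul_self, one_mul]

theorem prod_pairs {M : Type*} [CommMonoid M] (F : Fin r → Fin r → M) :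
    ∏ p ∈ (Finset.univ : Finset (Fin r × Fin r)).filter (fun p => p.1 < p.2), F p.1 p.2 =
      ∏ i : Fin r, ∏ j ∈ Finset.Ioi i, F i j := by
  rw [Finset.prod_filter, ← Finset.univ_product_univ, Finset.prod_product]
  refine Finset.prod_congr rfl fun i _ => ?_
  rw [← Finset.prod_filter]
  congr 1
  ext j
  simp

end dual

end Groth.Agent.H9.Verlinde
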