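import Mathlib
import Groth.Agent.Lib.Helper9.Verlinde.Alt

/-!
# The fusion identity `Σ_μ S_μ S_{μ*}` (helper9)
-/

set_option autoImplicit false

namespace Groth.Agent.H9.Verlinde

open Finset Equiv ComplexConjugate

variable {r : ℕ}

theorem alt_rho_ne_zero {z : Fin r → ℂ} (hinj : Function.Injective z) : alt z (rho r) ≠ 0 := by
  rw [alt_rho]
  apply mul_ne_zero
  · intro h
    have := eps_mul_self r
    rw [h, zero_mul] at this
    exact zero_ne_one this
  · apply Finset.prod_ne_zero_iff.2
    intro i _
    apply Finset.prod_ne_zero_iff.2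
    intro j hj
    rw [Finset.mem_Ioi] at hj
    intro h
    exact hj.ne (hinj (sub_eq_zero.1 h)).symm

theorem verlinde_A (k : ℕ) (hr : 1 ≤ r) {z : Fin r → ℂ} (hz : ∀ j, z j ^ (r + k) = 1)
    (hinj : Function.Injective z) :
    ∑ μ ∈ (box r k).filter Antitone,
      (alt z (fun i => μ i + rho r i) / alt z (rho r)) *
        (alt z (fun i => (k - μ (Fin.rev i)) + rho r i) / alt z (rho r)) =
      (∏ j, z j) ^ k * ((k : ℂ) * ((r : ℂ) + k) ^ (r - 1)) /
        (alt z (rho r) * conj (alt z (rho r))) := by
  have hN : 1 ≤ r + k := by omega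
  have hconj : ∀ j, conj (z j) = (z j)⁻¹ := fun j => conj_eq_inv_of_pow_eq_one hN (hz j)
  have hz0 : ∀ j, z j ≠ 0 := fun j => ne_zero_of_pow_eq_one hN (hz j)
  have ha := alt_rho_ne_zero hinj
  have hP0 : (∏ j, z j) ≠ 0 := Finset.prod_ne_zero_iff.2 fun j _ => hz0 j
  have hca : conj (alt z (rho r)) ≠ 0 := by
    intro h
    apply ha
    have := congrArg conj h
    simpa using this
  -- self-duality of rho
  have hrho : alt z (rho r) = eps r * (∏ j, z j) ^ (r - 1) * conj (alt z (rho r)) := by
    apply alt_dual hconj hz0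
    intro i
    simp only [rho, Fin.val_rev]
    have := i.2
    omega
  -- each term
  have hterm : ∀ μ ∈ (box r k).filter Antitone,
      (alt z (fun i => μ i + rho r i) / alt z (rho r)) *
        (alt z (fun i => (k - μ (Fin.rev i)) + rho r i) / alt z (rho r)) =
      ((∏ j, z j) ^ k / (alt z (rho r) * conj (alt z (rho r)))) *
        (alt z (fun i => μ i + rho r i) * alt (fun j => conj (z j)) (fun i => μ i + rho r i)) := by
    intro μ hμ
    rw [Finset.mem_filter, mem_box] at hμ
    have hd : alt z (fun i => (k - μ (Fin.rev i)) + rho r i) =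
        eps r * (∏ j, z j) ^ (r + k - 1) * conj (alt z (fun i => μ i + rho r i)) := by
      apply alt_dual hconj hz0
      intro i
      have h1 := hμ.1 (Fin.rev i)
      simp only [rho, Fin.val_rev]
      have := i.2
      omega
    rw [hd, ← conj_alt]
    have hpow : (∏ j, z j) ^ (r + k - 1) = (∏ j, z j) ^ k * (∏ j, z j) ^ (r - 1) := by
      rw [← pow_add]
      congr 1
      omega
    rw [hpow]
    have he := eps_mul_self r
    have hPr : (∏ j, z j) ^ (r - 1) ≠ 0 := pow_ne_zero _ hP0
    have he0 : eps r ≠ 0 := by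
      intro h
      rw [h, zero_mul] at he
      exact zero_ne_one he
    -- rewrite one factor of the denominator
    have hden : alt z (rho r) * alt z (rho r) =
        eps r * (∏ j, z j) ^ (r - 1) * (alt z (rho r) * conj (alt z (rho r))) := by
      nth_rewrite 1 [hrho]
      ring
    rw [div_mul_div_comm, hden]
    field_simp
  rw [Finset.sum_congr rfl hterm, ← Finset.mul_sum]
  have hshift := sum_shift (r := r) k
    (fun lam => alt z lam * alt (fun j => conj (z j)) lam)
  have hkr : k + r - 1 = r + k - 1 := by omega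
  rw [hshift, sum_alt_mul, hkr, det_gram k hr hz hinj]
  ring

end Groth.Agent.H9.Verlinde
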