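import Mathlib
import Groth.Agent.Lib.Helper9.Verlinde.ThmA

/-!
# Roots of unity `exp (2πi a / N)` (helper9)
-/

set_option autoImplicit false

namespace Groth.Agent.H9.Verlinde

open Finset Equiv ComplexConjugate Complex

variable {r : ℕ}

/-- the point `exp (2πi a / (r + k))`, in the syntactic form of the statements -/
noncomputable def wpt (r k : ℕ) (a : ℕ) : ℂ :=
  Complex.exp (2 * Real.pi * Complex.I * (a : ℂ) / ((r : ℂ) + k))

theorem wpt_pow (r k : ℕ) (hN : 1 ≤ r + k) (a : ℕ) : wpt r k a ^ (r + k) = 1 := by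
  unfold wpt
  rw [← Complex.exp_nat_mul]
  have hD : ((r : ℂ) + k) ≠ 0 := by
    have : (0 : ℝ) < (r : ℝ) + k := by
      have : (1 : ℝ) ≤ ((r + k : ℕ) : ℝ) := by exact_mod_cast hN
      push_cast at this
      linarith
    exact_mod_cast this.ne'
  have : ((r + k : ℕ) : ℂ) * (2 * Real.pi * Complex.I * (a : ℂ) / ((r : ℂ) + k)) =
      (a : ℂ) * (2 * Real.pi * Complex.I) := by
    push_cast
    field_simp
  rw [this, Complex.exp_nat_mul_two_pi_mul_I]

theorem wpt_injOn (r k : ℕ) (hN : 1 ≤ r + k) {a b : ℕ} (ha : a < r + k) (hb : b < r + k)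
    (h : wpt r k a = wpt r k b) : a = b := by
  unfold wpt at h
  rw [Complex.exp_eq_exp_iff_exists_int] at h
  obtain ⟨n, hn⟩ := h
  have hD : ((r : ℂ) + k) ≠ 0 := by
    have : (0 : ℝ) < (r : ℝ) + k := by
      have : (1 : ℝ) ≤ ((r + k : ℕ) : ℝ) := by exact_mod_cast hN
      push_cast at this
      linarith
    exact_mod_cast this.ne'
  have hpi : (2 * (Real.pi : ℂ) * Complex.I) ≠ 0 := by
    simp [Real.pi_ne_zero]
  have h1 : (a : ℂ) = (b : ℂ) + n * ((r : ℂ) + k) := by
    field_simp at hn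
    linear_combination hn
  have h3 : (a : ℤ) = (b : ℤ) + n * ((r : ℤ) + k) := by
    have : ((a : ℤ) : ℂ) = (((b : ℤ) + n * ((r : ℤ) + k) : ℤ) : ℂ) := by
      push_cast
      exact h1
    exact_mod_cast this
  have h4 : n = 0 := by
    by_contra hne
    have hpos : (1 : ℤ) ≤ (r : ℤ) + k := by exact_mod_cast hN
    rcases lt_or_gt_of_ne hne with hlt | hgt
    · have : n ≤ -1 := by omega
      nlinarith
    · have : 1 ≤ n := by omega
      nlinarith
  rw [h4] at h3
  omega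

theorem wpt_add (r k : ℕ) (a b : ℕ) : wpt r k (a + b) = wpt r k a * wpt r k b := by
  unfold wpt
  rw [← Complex.exp_add]
  congr 1
  push_cast
  ring

theorem wpt_pow_comm (r k : ℕ) (a b : ℕ) : wpt r k a ^ b = wpt r k b ^ a := by
  unfold wpt
  rw [← Complex.exp_nat_mul, ← Complex.exp_nat_mul]
  congr 1
  ring

theorem wpt_mul_nat (r k : ℕ) (a b : ℕ) : wpt r k (a * b) = wpt r k a ^ b := by
  unfold wpt
  rw [← Complex.exp_nat_mul]
  congr 1
  push_cast
  ring

theorem wpt_self (r k : ℕ) (hN : 1 ≤ r + k) : wpt r k (r + k) = 1 := by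
  have h := wpt_mul_nat r k 1 (r + k)
  rw [one_mul] at h
  rw [h, wpt_pow r k hN]

theorem wpt_mod (r k : ℕ) (hN : 1 ≤ r + k) (a : ℕ) : wpt r k (a % (r + k)) = wpt r k a := by
  conv_rhs => rw [← Nat.div_add_mod a (r + k)]
  rw [wpt_add, wpt_mul_nat, wpt_self r k hN, one_pow, one_mul]

theorem wpt_zero (r k : ℕ) : wpt r k 0 = 1 := by
  unfold wpt
  simp

theorem wpt_mul_conj (r k : ℕ) (hN : 1 ≤ r + k) (a : ℕ) : wpt r k a * conj (wpt r k a) = 1 := by
  rw [conj_eq_inv_of_pow_eq_one hN (wpt_pow r k hN a),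
    mul_inv_cancel₀ (ne_zero_of_pow_eq_one hN (wpt_pow r k hN a))]

theorem prod_wpt_pow (r k : ℕ) (v : Fin r → ℕ) (m : ℕ) :
    (∏ j, wpt r k (v j)) ^ m =
      Complex.exp (2 * Real.pi * Complex.I * (m : ℂ) * ((∑ j, v j : ℕ) : ℂ) / ((r : ℂ) + k)) := by
  unfold wpt
  rw [← Complex.exp_sum, ← Complex.exp_nat_mul]
  congr 1
  push_cast
  rw [Finset.mul_sum, Finset.mul_sum, Finset.sum_div]
  refine Finset.sum_congr rfl fun j _ => ?_
  ring

theorem wpt_sub_normSq (r k : ℕ) (hN : 1 ≤ r + k) (a b : ℕ) :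
    (wpt r k a - wpt r k b) * conj (wpt r k a - wpt r k b) =
      (((2 : ℝ) * Real.sin (Real.pi * ((a : ℝ) - (b : ℝ)) / ((r : ℝ) + k))) ^ 2 : ℝ) := by
  have hD : ((r : ℝ) + k) ≠ 0 := by
    have : (1 : ℝ) ≤ ((r + k : ℕ) : ℝ) := by exact_mod_cast hN
    push_cast at this
    linarith
  set x : ℝ := Real.pi * ((a : ℝ) - (b : ℝ)) / ((r : ℝ) + k) with hx
  have hconj : ∀ c : ℕ, conj (wpt r k c) = Complex.exp (-(2 * Real.pi * Complex.I * (c : ℂ) / ((r : ℂ) + k))) := by
    intro c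
    unfold wpt
    rw [← Complex.exp_conj]
    congr 1
    simp only [map_div₀, map_mul, map_add, Complex.conj_I, Complex.conj_ofReal, map_natCast,
      map_ofNat]
    ring
  have h1 : wpt r k a * conj (wpt r k b) = Complex.exp ((2 * x : ℝ) * Complex.I) := by
    rw [hconj]
    unfold wpt
    rw [← Complex.exp_add]
    congr 1
    rw [hx]
    push_cast
    have : ((r : ℂ) + k) ≠ 0 := by exact_mod_cast hD
    field_simp
    ring
  have h2 : conj (wpt r k a) * wpt r k b = Complex.exp (-((2 * x : ℝ) : ℂ) * Complex.I) := by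
    rw [hconj]
    unfold wpt
    rw [← Complex.exp_add]
    congr 1
    rw [hx]
    push_cast
    have : ((r : ℂ) + k) ≠ 0 := by exact_mod_cast hD
    field_simp
    ring
  have h3 : ∀ c : ℕ, wpt r k c * conj (wpt r k c) = 1 := by
    intro c
    rw [hconj]
    unfold wpt
    rw [← Complex.exp_add, add_neg_cancel, Complex.exp_zero]
  have hcos := Complex.two_cos ((2 * x : ℝ) : ℂ)
  have hexpand : (wpt r k a - wpt r k b) * conj (wpt r k a - wpt r k b) =
      wpt r k a * conj (wpt r k a) + wpt r k b * conj (wpt r k b) -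
        (wpt r k a * conj (wpt r k b) + conj (wpt r k a) * wpt r k b) := by
    rw [map_sub]
    ring
  rw [hexpand, h3, h3, h1, h2, ← hcos, ← Complex.ofReal_cos]
  have hreal : (1 : ℝ) + 1 - 2 * Real.cos (2 * x) = (2 * Real.sin x) ^ 2 := by
    rw [Real.cos_two_mul, mul_pow, Real.sin_sq]
    ring
  rw [← hreal]
  push_cast
  ring

end Groth.Agent.H9.Verlinde
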