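import Mathlib
import Groth.Agent.Lib.Helper9.Verlinde.Exp

/-!
# Assembly of the Verlinde statements (helper9)
-/

set_option autoImplicit false

namespace Groth.Agent.H9.Verlinde

open Finset Equiv ComplexConjugate Complex

variable {r : ℕ}

theorem alt_rho_normSq_wpt (r k : ℕ) (hN : 1 ≤ r + k) (v : Fin r → ℕ) :
    alt (fun j => wpt r k (v j)) (rho r) * conj (alt (fun j => wpt r k (v j)) (rho r)) =
      ∏ p ∈ (Finset.univ : Finset (Fin r × Fin r)).filter (fun p => p.1 < p.2),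
        ((((2 : ℝ) * Real.sin (Real.pi * ((v p.1 : ℝ) - (v p.2 : ℝ)) / ((r : ℝ) + k))) ^ 2 : ℝ) : ℂ) := by
  rw [alt_rho_normSq]
  have hp := prod_pairs (r := r) (M := ℂ) (fun i j =>
    ((((2 : ℝ) * Real.sin (Real.pi * ((v i : ℝ) - (v j : ℝ)) / ((r : ℝ) + k))) ^ 2 : ℝ) : ℂ))
  rw [hp]
  refine Finset.prod_congr rfl fun i _ => Finset.prod_congr rfl fun j _ => ?_
  rw [wpt_sub_normSq r k hN]
  congr 1
  have : Real.pi * ((v j : ℝ) - (v i : ℝ)) / ((r : ℝ) + k) =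
      -(Real.pi * ((v i : ℝ) - (v j : ℝ)) / ((r : ℝ) + k)) := by ring
  rw [this, Real.sin_neg]
  ring

theorem wpt_injective (r k : ℕ) (hN : 1 ≤ r + k) {v : Fin r → ℕ} (hv : Function.Injective v)
    (hvlt : ∀ i, v i < r + k) : Function.Injective (fun j => wpt r k (v j)) := by
  intro i j h
  exact hv (wpt_injOn r k hN (hvlt i) (hvlt j) h)

/-- S18377 -/
theorem fusion_sum (r k : ℕ) (hr : 1 ≤ r) (hk : 1 ≤ k)
    (v : Fin r → ℕ) (hv : StrictAnti v) (hvlt : ∀ i, v i < r + k)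
    (z : Fin r → ℂ) (hz : ∀ j, z j = Complex.exp (2 * Real.pi * Complex.I * (v j : ℂ) / ((r : ℂ) + k)))
    (S : (Fin r → ℕ) → ℂ)
    (hS : ∀ μ : Fin r → ℕ, S μ =
      (Matrix.of fun i j : Fin r => z j ^ (μ i + (r - 1 - (i : ℕ)))).det /
        (Matrix.of fun i j : Fin r => z j ^ (r - 1 - (i : ℕ))).det) :
    (∑ μ ∈ (Finset.univ : Finset (Fin r → Fin k)).filter (fun μ : Fin r → Fin k => Antitone μ),
        S (fun i => (μ i : ℕ)) * S (fun i => k - (μ (Fin.rev i) : ℕ))) =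
      Complex.exp (2 * Real.pi * Complex.I * (k : ℂ) * ((∑ j, v j : ℕ) : ℂ) / ((r : ℂ) + k)) *
        ((k : ℂ) * ((r : ℂ) + k) ^ (r - 1)) /
        (∏ p ∈ (Finset.univ : Finset (Fin r × Fin r)).filter (fun p => p.1 < p.2),
          (((2 : ℝ) * Real.sin (Real.pi * ((v p.1 : ℝ) - (v p.2 : ℝ)) / ((r : ℝ) + k))) ^ 2 : ℝ) : ℂ) := by
  have hN : 1 ≤ r + k := by omega
  have hzw : z = fun j => wpt r k (v j) := funext hz
  have hS' : ∀ μ : Fin r → ℕ, S μ = alt z (fun i => μ i + rho r i) / alt z (rho r) := by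
    intro μ
    rw [hS]
    rfl
  have hconv := sum_fin_eq (r := r) k Antitone
    (fun w => S w * S (fun i => k - w (Fin.rev i)))
  have hfilter : (Finset.univ : Finset (Fin r → Fin k)).filter (fun μ : Fin r → Fin k => Antitone μ) =
      (Finset.univ : Finset (Fin r → Fin k)).filter (fun μ => Antitone (fun i => (μ i : ℕ))) := by
    ext μ
    simp only [Finset.mem_filter, antitone_val_iff]
  rw [hfilter, hconv]
  simp only [hS']
  have hpow : ∀ j, z j ^ (r + k) = 1 := by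
    intro j
    rw [hzw]
    exact wpt_pow r k hN (v j)
  have hinj : Function.Injective z := by
    rw [hzw]
    exact wpt_injective r k hN hv.injective hvlt
  rw [verlinde_A k hr hpow hinj, hzw, prod_wpt_pow, alt_rho_normSq_wpt r k hN]

theorem sum_dual_weight (k : ℕ) (μ : Fin r → Fin k) :
    (∑ i, (μ i : ℕ)) + (∑ i, (k - (μ (Fin.rev i) : ℕ))) = r * k := by
  have h1 : ∑ i : Fin r, (k - (μ (Fin.rev i) : ℕ)) = ∑ i : Fin r, (k - (μ i : ℕ)) :=
    Equiv.sum_comp Fin.revPerm (fun i => k - (μ i : ℕ))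
  rw [h1, ← Finset.sum_add_distrib]
  have h2 : ∀ i : Fin r, (μ i : ℕ) + (k - (μ i : ℕ)) = k := fun i => by
    have := (μ i).2
    omega
  simp only [h2, Finset.sum_const, Finset.card_univ, Fintype.card_fin, smul_eq_mul]

/-- S18381 -/
theorem verlinde_rec (r k : ℕ) (hr : 1 ≤ r) (hk : 1 ≤ k)
    (g : ℕ) (d : ℤ) (ι : Type) [Fintype ι] (lam : ι → Fin r → ℕ)
    (z : (Fin r → ℕ) → Fin r → ℂ)
    (hz : ∀ v j, z v j = Complex.exp (2 * Real.pi * Complex.I * (v j : ℂ) / ((r : ℂ) + k)))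
    (S : (Fin r → ℕ) → (Fin r → ℕ) → ℂ)
    (hS : ∀ μ v, S μ v = (Matrix.of fun i j : Fin r => z v j ^ (μ i + (r - 1 - (i : ℕ)))).det /
        (Matrix.of fun i j : Fin r => z v j ^ (r - 1 - (i : ℕ))).det)
    (P : (Fin r → ℕ) → ℝ)
    (hP : ∀ v, P v = ∏ p ∈ (Finset.univ : Finset (Fin r × Fin r)).filter (fun p => p.1 < p.2),
        ((2 : ℝ) * Real.sin (Real.pi * ((v p.1 : ℝ) - (v p.2 : ℝ)) / ((r : ℝ) + k))) ^ 2)
    (V : ℕ → ℤ → ℕ → ((Fin r → ℕ) → ℂ) → ℂ)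
    (hV : ∀ (g' : ℕ) (d' : ℤ) (w : ℕ) (Sω : (Fin r → ℕ) → ℂ), V g' d' w Sω =
        (-1 : ℂ) ^ (d' * ((r : ℤ) - 1)) * ((k : ℂ) / r) ^ g' *
          ((((r : ℂ) * ((r : ℂ) + k) ^ (r - 1)) ^ g') / ((r : ℂ) * ((r : ℂ) + k) ^ (r - 1))) *
          ∑ v ∈ (Finset.univ : Finset (Fin r → Fin (r + k))).filter
            (fun v : Fin r → Fin (r + k) => StrictAnti v ∧ ∀ i : Fin r, (i : ℕ) = r - 1 → (v i : ℕ) = 0),
            Complex.exp (2 * Real.pi * Complex.I * ((d' : ℂ) / r - (w : ℂ) / ((r : ℂ) * ((r : ℂ) + k))) *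
                ((∑ j, (v j : ℕ) : ℕ) : ℂ)) *
              Sω (fun j => (v j : ℕ)) *
              (((P (fun j => (v j : ℕ)) : ℂ)) / ((P (fun j => (v j : ℕ)) : ℂ)) ^ g')) :
    V (g + 1) d (∑ x, ∑ i, lam x i) (fun v => ∏ x, S (lam x) v) =
      ∑ μ ∈ (Finset.univ : Finset (Fin r → Fin k)).filter (fun μ : Fin r → Fin k => Antitone μ),
        V g d ((∑ x, ∑ i, lam x i) + (∑ i, (μ i : ℕ)) + (∑ i, (k - (μ (Fin.rev i) : ℕ))))
          (fun v => (∏ x, S (lam x) v) * S (fun i => (μ i : ℕ)) v *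
            S (fun i => k - (μ (Fin.rev i) : ℕ)) v) := by
  have hN : 1 ≤ r + k := by omega
  have hrc : (r : ℂ) ≠ 0 := by
    have : (0 : ℝ) < (r : ℝ) := by exact_mod_cast hr
    exact_mod_cast this.ne'
  have hNc : ((r : ℂ) + k) ≠ 0 := by
    have : (0 : ℝ) < (r : ℝ) + k := by positivity
    exact_mod_cast this.ne'
  simp only [hV]
  rw [← Finset.mul_sum]
  -- compare constants
  set c0 : ℂ := (-1 : ℂ) ^ (d * ((r : ℤ) - 1)) with hc0
  set B : ℂ := (r : ℂ) * ((r : ℂ) + k) ^ (r - 1) with hB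
  have hB0 : B ≠ 0 := mul_ne_zero hrc (pow_ne_zero _ hNc)
  have hconst : c0 * ((k : ℂ) / r) ^ (g + 1) * (B ^ (g + 1) / B) =
      (c0 * ((k : ℂ) / r) ^ g * (B ^ g / B)) * ((k : ℂ) * ((r : ℂ) + k) ^ (r - 1)) := by
    rw [pow_succ, pow_succ, hB]
    field_simp
  rw [hconst, mul_assoc]
  congr 1
  rw [Finset.mul_sum]
  symm
  refine (Finset.sum_comm).trans ?_
  refine Finset.sum_congr rfl fun v hv => ?_
  rw [Finset.mem_filter] at hv
  -- the fusion identity at v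
  have hvanti : StrictAnti (fun j => (v j : ℕ)) := (strictAnti_val_iff v).2 hv.2.1
  have hfus := fusion_sum r k hr hk (fun j => (v j : ℕ)) hvanti (fun i => (v i).2)
    (z (fun j => (v j : ℕ))) (fun j => hz _ j) (fun μ => S μ (fun j => (v j : ℕ)))
    (fun μ => hS μ _)
  have hPc : ((P (fun j => (v j : ℕ)) : ℝ) : ℂ) =
      ∏ p ∈ (Finset.univ : Finset (Fin r × Fin r)).filter (fun p => p.1 < p.2),
        ((((2 : ℝ) * Real.sin (Real.pi * (((v p.1 : ℕ) : ℝ) - ((v p.2 : ℕ) : ℝ)) / ((r : ℝ) + k))) ^ 2 : ℝ) : ℂ) := by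
    rw [hP, Complex.ofReal_prod]
  rw [← hPc] at hfus
  -- each term of the μ-sum
  have hterm : ∀ μ ∈ (Finset.univ : Finset (Fin r → Fin k)).filter (fun μ : Fin r → Fin k => Antitone μ),
      Complex.exp (2 * Real.pi * Complex.I * ((d : ℂ) / r -
          (((∑ x, ∑ i, lam x i) + (∑ i, (μ i : ℕ)) + (∑ i, (k - (μ (Fin.rev i) : ℕ))) : ℕ) : ℂ) /
            ((r : ℂ) * ((r : ℂ) + k))) * ((∑ j, (v j : ℕ) : ℕ) : ℂ)) *
        ((∏ x, S (lam x) (fun j => (v j : ℕ))) * S (fun i => (μ i : ℕ)) (fun j => (v j : ℕ)) *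
          S (fun i => k - (μ (Fin.rev i) : ℕ)) (fun j => (v j : ℕ))) *
        (((P (fun j => (v j : ℕ)) : ℂ)) / ((P (fun j => (v j : ℕ)) : ℂ)) ^ g) =
      (Complex.exp (2 * Real.pi * Complex.I * ((d : ℂ) / r -
          (((∑ x, ∑ i, lam x i) + r * k : ℕ) : ℂ) /
            ((r : ℂ) * ((r : ℂ) + k))) * ((∑ j, (v j : ℕ) : ℕ) : ℂ)) *
        (∏ x, S (lam x) (fun j => (v j : ℕ))) *
        (((P (fun j => (v j : ℕ)) : ℂ)) / ((P (fun j => (v j : ℕ)) : ℂ)) ^ g)) *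
        (S (fun i => (μ i : ℕ)) (fun j => (v j : ℕ)) *
          S (fun i => k - (μ (Fin.rev i) : ℕ)) (fun j => (v j : ℕ))) := by
    intro μ _
    have := sum_dual_weight k μ
    rw [add_assoc, this]
    ring
  rw [Finset.sum_congr rfl hterm, ← Finset.mul_sum, hfus]
  -- exponentials
  have hexp : Complex.exp (2 * Real.pi * Complex.I * ((d : ℂ) / r -
          (((∑ x, ∑ i, lam x i) + r * k : ℕ) : ℂ) /
            ((r : ℂ) * ((r : ℂ) + k))) * ((∑ j, (v j : ℕ) : ℕ) : ℂ)) *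
      Complex.exp (2 * Real.pi * Complex.I * (k : ℂ) * ((∑ j, (v j : ℕ) : ℕ) : ℂ) / ((r : ℂ) + k)) =
      Complex.exp (2 * Real.pi * Complex.I * ((d : ℂ) / r -
          ((∑ x, ∑ i, lam x i : ℕ) : ℂ) /
            ((r : ℂ) * ((r : ℂ) + k))) * ((∑ j, (v j : ℕ) : ℕ) : ℂ)) := by
    rw [← Complex.exp_add]
    congr 1
    push_cast
    field_simp
    ring
  rw [← hexp, pow_succ]
  set E1 := Complex.exp (2 * Real.pi * Complex.I * ((d : ℂ) / r -
          (((∑ x, ∑ i, lam x i) + r * k : ℕ) : ℂ) /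
            ((r : ℂ) * ((r : ℂ) + k))) * ((∑ j, (v j : ℕ) : ℕ) : ℂ))
  set E2 := Complex.exp (2 * Real.pi * Complex.I * (k : ℂ) * ((∑ j, (v j : ℕ) : ℕ) : ℂ) / ((r : ℂ) + k))
  set Pv : ℂ := ((P (fun j => (v j : ℕ)) : ℝ) : ℂ)
  set Q := ∏ x, S (lam x) (fun j => (v j : ℕ))
  by_cases hP0 : Pv = 0
  · rw [hP0]
    simp
  · field_simp

end Groth.Agent.H9.Verlinde
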