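import Mathlib

/-!
# The arithmetic core of character orthogonality (helper9)
-/

set_option autoImplicit false

namespace Groth.Agent.H9.Verlinde

open Finset Equiv

theorem arith_key {r : ℕ} (N : ℕ) (hN : 0 < N) (hr : 0 < r) (α β : Fin r → ℕ)
    (hα : StrictAnti α) (hαlt : ∀ i, α i < N) (hβ : StrictAnti β) (hβlt : ∀ i, β i < N)
    (π : Perm (Fin r)) (D' : ℤ)
    (hD : (∑ i, (α i : ℤ)) - ∑ i, (β i : ℤ) = r * D')
    (h : ∀ i, ((r * N : ℕ) : ℤ) ∣ -(r * D') + r * (α (π i) : ℤ) - r * (β i : ℤ)) :
    ∀ i, (α i : ℤ) - (β i : ℤ) = D' := by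
  have hr' : (r : ℤ) ≠ 0 := by exact_mod_cast hr.ne'
  have hN' : (0 : ℤ) < N := by exact_mod_cast hN
  have h1 : ∀ i, ∃ m : ℤ, (α (π i) : ℤ) - β i - D' = N * m := by
    intro i
    obtain ⟨m, hm⟩ := h i
    refine ⟨m, ?_⟩
    push_cast at hm
    have : (r : ℤ) * ((α (π i) : ℤ) - β i - D') = r * (N * m) := by
      linear_combination hm
    exact mul_left_cancel₀ hr' this
  choose m hm using h1
  -- the sum of the m_i vanishes
  have hsum : ∑ i, m i = 0 := by
    have h2 : ∑ i, ((α (π i) : ℤ) - β i - D') = ∑ i, (N : ℤ) * m i :=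
      Finset.sum_congr rfl fun i _ => hm i
    rw [Finset.sum_sub_distrib, Finset.sum_sub_distrib, Finset.sum_const, Finset.card_univ,
      Fintype.card_fin, ← Finset.mul_sum, nsmul_eq_mul,
      Equiv.sum_comp π (fun i => (α i : ℤ)), hD, sub_self] at h2
    rcases mul_eq_zero.1 h2.symm with h3 | h3
    · exact absurd h3 hN'.ne'
    · exact h3
  -- pairwise differences are at most one
  have hdiff : ∀ i i', m i - m i' ≤ 1 := by
    intro i i'
    have e1 := hm i
    have e2 := hm i'
    have b1 : (α (π i) : ℤ) < N := by exact_mod_cast hαlt (π i)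
    have b2 : (0 : ℤ) ≤ (α (π i') : ℤ) := by positivity
    have b3 : (β i' : ℤ) < N := by exact_mod_cast hβlt i'
    have b4 : (0 : ℤ) ≤ (β i : ℤ) := by positivity
    have h3 : (N : ℤ) * (m i - m i') < N * 2 := by
      have : (N : ℤ) * (m i - m i') = ((α (π i) : ℤ) - β i - D') - ((α (π i') : ℤ) - β i' - D') := by
        rw [e1, e2]
        ring
      rw [this]
      linarith
    have := lt_of_mul_lt_mul_left h3 hN'.le
    omega
  have hzero : ∀ i, m i = 0 := by
    intro i
    by_contra hne
    rcases lt_or_gt_of_ne hne with hlt | hgt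
    · have hall : ∀ i' ∈ (Finset.univ : Finset (Fin r)), 0 ≤ -m i' := by
        intro i' _
        have := hdiff i' i
        omega
      have h4 := Finset.single_le_sum hall (Finset.mem_univ i)
      rw [Finset.sum_neg_distrib, hsum] at h4
      omega
    · have hall : ∀ i' ∈ (Finset.univ : Finset (Fin r)), 0 ≤ m i' := by
        intro i' _
        have := hdiff i i'
        omega
      have h4 := Finset.single_le_sum hall (Finset.mem_univ i)
      rw [hsum] at h4
      omega
  have h5 : ∀ i, (α (π i) : ℤ) = β i + D' := by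
    intro i
    have := hm i
    rw [hzero i, mul_zero] at this
    linarith
  -- `α ∘ π` is antitone
  have hanti : Antitone (α ∘ π) := by
    intro i j hij
    have e1 := h5 i
    have e2 := h5 j
    have : (β j : ℤ) ≤ β i := by exact_mod_cast hβ.antitone hij
    have h6 : (α (π j) : ℤ) ≤ α (π i) := by linarith
    exact_mod_cast h6
  have hanti1 : Antitone (α ∘ (1 : Perm (Fin r))) := by
    intro i j hij
    exact hα.antitone hij
  have h7 := Tuple.unique_antitone hanti hanti1
  intro i
  have h8 : α (π i) = α i := congrFun h7 i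
  have := h5 i
  rw [h8] at this
  linarith

end Groth.Agent.H9.Verlinde
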