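import Mathlib
import Groth.Agent.Lib.Helper9.Verlinde.Sort

/-!
# Reduction of sums over the alcove to sums over the full box (helper9)
-/

set_option autoImplicit false

namespace Groth.Agent.H9.Verlinde

open Finset Equiv

variable {r : ℕ} {M : Type*} [AddCommMonoid M]

/-- the alcove: strictly decreasing tuples below `N` with last entry `0` -/
def alcove (r N : ℕ) : Finset (Fin r → ℕ) :=
  (box r N).filter (fun v => StrictAnti v ∧ LastZero v)

theorem strictAnti_exists_zero_iff (hr : 1 ≤ r) {v : Fin r → ℕ} (hv : StrictAnti v) :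
    (∃ i, v i = 0) ↔ LastZero v := by
  constructor
  · rintro ⟨i, hi⟩ j hj
    by_contra hne
    have hij : i ≤ j := by
      rw [Fin.le_def]
      have := i.2
      omega
    rcases hij.lt_or_eq with h | h
    · have := hv h
      omega
    · subst h
      exact hne hi
  · intro h
    exact ⟨⟨r - 1, by omega⟩, h _ rfl⟩

/-- Step 1: sort -/
theorem sum_alcove_eq (N : ℕ) (hr : 1 ≤ r) (G : (Fin r → ℕ) → M)
    (hsymm : ∀ (f : Fin r → ℕ) (σ : Perm (Fin r)), G (f ∘ σ) = G f)
    (hinj : ∀ f : Fin r → ℕ, ¬ Function.Injective f → G f = 0) :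
    ∑ f ∈ box r N, (if ∃ i, f i = 0 then G f else 0) =
      (Nat.factorial r) • ∑ v ∈ alcove r N, G v := by
  classical
  have h := sum_sort N (fun f => if ∃ i, f i = 0 then G f else 0)
    (fun f σ => by
      have h1 : (∃ i, (f ∘ σ) i = 0) ↔ ∃ i, f i = 0 := by
        constructor
        · rintro ⟨i, hi⟩
          exact ⟨σ i, hi⟩
        · rintro ⟨i, hi⟩
          exact ⟨σ⁻¹ i, by simpa using hi⟩
      simp only [h1, hsymm])
    (fun f hf => by simp only [hinj f hf, ite_self])
  rw [h]
  congr 1
  unfold alcove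
  rw [← Finset.filter_filter, Finset.sum_filter (s := (box r N).filter StrictAnti)]
  refine Finset.sum_congr rfl fun v hv => ?_
  rw [Finset.mem_filter] at hv
  simp only [strictAnti_exists_zero_iff hr hv.2]

/-- Step 2: position of the zero -/
theorem sum_exists_zero_eq (N : ℕ) (hr : 1 ≤ r) (G : (Fin r → ℕ) → M)
    (hsymm : ∀ (f : Fin r → ℕ) (σ : Perm (Fin r)), G (f ∘ σ) = G f)
    (hinj : ∀ f : Fin r → ℕ, ¬ Function.Injective f → G f = 0) :
    ∑ f ∈ box r N, (if ∃ i, f i = 0 then G f else 0) =
      r • ∑ f ∈ box r N, (if f ⟨0, hr⟩ = 0 then G f else 0) := by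
  classical
  have h1 : ∀ f : Fin r → ℕ, (if ∃ i, f i = 0 then G f else 0) =
      ∑ i : Fin r, (if f i = 0 then G f else 0) := by
    intro f
    by_cases hf : Function.Injective f
    · by_cases hex : ∃ i, f i = 0
      · obtain ⟨i, hi⟩ := hex
        rw [if_pos ⟨i, hi⟩, Finset.sum_eq_single i]
        · rw [if_pos hi]
        · intro j _ hji
          rw [if_neg]
          intro hj
          exact hji (hf (hj.trans hi.symm))
        · intro h
          exact absurd (Finset.mem_univ i) h
      · rw [if_neg hex]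
        symm
        apply Finset.sum_eq_zero
        intro i _
        rw [if_neg]
        intro hi
        exact hex ⟨i, hi⟩
    · simp only [hinj f hf, ite_self, Finset.sum_const_zero]
  simp only [h1]
  rw [Finset.sum_comm]
  have h2 : ∀ i : Fin r, ∑ f ∈ box r N, (if f i = 0 then G f else 0) =
      ∑ f ∈ box r N, (if f ⟨0, hr⟩ = 0 then G f else 0) := by
    intro i
    apply Finset.sum_bij' (fun f _ => f ∘ (Equiv.swap i ⟨0, hr⟩))
      (fun f _ => f ∘ (Equiv.swap i ⟨0, hr⟩))
    · intro f hf
      exact (comp_perm_mem_box _).2 hf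
    · intro f hf
      exact (comp_perm_mem_box _).2 hf
    · intro f _
      funext j
      simp
    · intro f _
      funext j
      simp
    · intro f _
      simp only [Function.comp_apply, Equiv.swap_apply_right, hsymm]
  rw [Finset.sum_congr rfl fun i _ => h2 i, Finset.sum_const, Finset.card_univ, Fintype.card_fin]

/-- Step 3: translation -/
theorem sum_translate (N : ℕ) (hr : 1 ≤ r) (G : (Fin r → ℕ) → M)
    (hper : ∀ f f' : Fin r → ℕ, (∀ j, f j % N = f' j % N) → G f = G f')
    (htrans : ∀ (f : Fin r → ℕ) (c : ℕ), G (fun j => f j + c) = G f) :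
    ∑ f ∈ box r N, G f = N • ∑ f ∈ box r N, (if f ⟨0, hr⟩ = 0 then G f else 0) := by
  classical
  have h1 : ∑ f ∈ box r N, G f =
      ∑ c ∈ Finset.range N, ∑ f ∈ (box r N).filter (fun f => f ⟨0, hr⟩ = c), G f := by
    symm
    apply Finset.sum_fiberwise_of_maps_to
    intro f hf
    rw [Finset.mem_range]
    exact (mem_box.1 hf) _
  rw [h1]
  have h2 : ∀ c ∈ Finset.range N, ∑ f ∈ (box r N).filter (fun f => f ⟨0, hr⟩ = c), G f =
      ∑ f ∈ box r N, (if f ⟨0, hr⟩ = 0 then G f else 0) := by
    intro c hc
    rw [Finset.mem_range] at hc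
    rw [← Finset.sum_filter]
    symm
    apply Finset.sum_bij' (fun g _ => fun j => (g j + c) % N)
      (fun f _ => fun j => (f j + (N - c)) % N)
    · intro g hg
      rw [Finset.mem_filter, mem_box] at hg ⊢
      refine ⟨fun j => Nat.mod_lt _ (by omega), ?_⟩
      show (g ⟨0, hr⟩ + c) % N = c
      rw [hg.2, zero_add]
      exact Nat.mod_eq_of_lt hc
    · intro f hf
      rw [Finset.mem_filter, mem_box] at hf ⊢
      refine ⟨fun j => Nat.mod_lt _ (by omega), ?_⟩
      show (f ⟨0, hr⟩ + (N - c)) % N = 0
      rw [hf.2]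
      have : c + (N - c) = N := by omega
      rw [this, Nat.mod_self]
    · intro g hg
      rw [Finset.mem_filter, mem_box] at hg
      funext j
      simp only
      rw [Nat.mod_add_mod]
      have : g j + c + (N - c) = g j + N := by omega
      rw [this, Nat.add_mod_right]
      exact Nat.mod_eq_of_lt (hg.1 j)
    · intro f hf
      rw [Finset.mem_filter, mem_box] at hf
      funext j
      simp only
      rw [Nat.mod_add_mod]
      have : f j + (N - c) + c = f j + N := by omega
      rw [this, Nat.add_mod_right]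
      exact Nat.mod_eq_of_lt (hf.1 j)
    · intro g _
      rw [← htrans g c]
      apply hper
      intro j
      simp
  rw [Finset.sum_congr rfl h2, Finset.sum_const, Finset.card_range]

/-- the alcove sum in terms of the full box sum -/
theorem alcove_sum (N : ℕ) (hr : 1 ≤ r) (G : (Fin r → ℕ) → M)
    (hsymm : ∀ (f : Fin r → ℕ) (σ : Perm (Fin r)), G (f ∘ σ) = G f)
    (hinj : ∀ f : Fin r → ℕ, ¬ Function.Injective f → G f = 0)
    (hper : ∀ f f' : Fin r → ℕ, (∀ j, f j % N = f' j % N) → G f = G f')
    (htrans : ∀ (f : Fin r → ℕ) (c : ℕ), G (fun j => f j + c) = G f) :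
    (N * Nat.factorial r) • ∑ v ∈ alcove r N, G v = r • ∑ f ∈ box r N, G f := by
  rw [mul_smul, ← sum_alcove_eq N hr G hsymm hinj, sum_exists_zero_eq N hr G hsymm hinj,
    sum_translate N hr G hper htrans, smul_comm]

end Groth.Agent.H9.Verlinde
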