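import Mathlib
import Groth.Agent.Lib.Helper9.Verlinde.ZeroRange

/-!
# The rotation of the alcove and vanishing of twisted sums (helper9)
-/

set_option autoImplicit false

namespace Groth.Agent.H9.Verlinde

open Finset Equiv

/-- the shifted vector before rotation -/
def preRot (n N : ℕ) (v : Fin (n + 2) → ℕ) : Fin (n + 2) → ℕ :=
  fun j => if (j : ℕ) = 0 then 0 else v j + (N - v 0)

/-- the rotation of the alcove -/
def rot (n N : ℕ) (v : Fin (n + 2) → ℕ) : Fin (n + 2) → ℕ :=
  preRot n N v ∘ finRotate (n + 2)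

theorem rot_apply_of_ne_last (n N : ℕ) (v : Fin (n + 2) → ℕ) {j : Fin (n + 2)}
    (hj : j ≠ Fin.last (n + 1)) :
    rot n N v j = v (finRotate (n + 2) j) + (N - v 0) := by
  unfold rot preRot
  have h := coe_finRotate_of_ne_last hj
  simp only [Function.comp_apply]
  rw [if_neg]
  rw [h]
  omega

theorem rot_apply_last (n N : ℕ) (v : Fin (n + 2) → ℕ) :
    rot n N v (Fin.last (n + 1)) = 0 := by
  unfold rot preRot
  simp only [Function.comp_apply]
  rw [finRotate_last]
  simp

theorem rot_mem_alcove (n N : ℕ) {v : Fin (n + 2) → ℕ} (hv : v ∈ alcove (n + 2) N) :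
    rot n N v ∈ alcove (n + 2) N := by
  unfold alcove at hv ⊢
  rw [Finset.mem_filter, mem_box] at hv ⊢
  obtain ⟨hlt, hanti, hz⟩ := hv
  have h0 : v 0 < N := hlt 0
  refine ⟨?_, ?_, ?_⟩
  · intro j
    by_cases hj : j = Fin.last (n + 1)
    · rw [hj, rot_apply_last]
      omega
    · rw [rot_apply_of_ne_last n N v hj]
      have h1 : (0 : Fin (n + 2)) < finRotate (n + 2) j := by
        rw [Fin.lt_def, coe_finRotate_of_ne_last hj]
        simp
      have := hanti h1
      omega
  · intro j j' hjj'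
    have hj : j ≠ Fin.last (n + 1) := by
      intro h
      rw [h] at hjj'
      exact absurd hjj' (not_lt.2 (Fin.le_last j'))
    rw [rot_apply_of_ne_last n N v hj]
    by_cases hj' : j' = Fin.last (n + 1)
    · rw [hj', rot_apply_last]
      omega
    · rw [rot_apply_of_ne_last n N v hj']
      have h1 : finRotate (n + 2) j < finRotate (n + 2) j' := by
        rw [Fin.lt_def, coe_finRotate_of_ne_last hj, coe_finRotate_of_ne_last hj']
        have := Fin.lt_def.1 hjj'
        omega
      have := hanti h1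
      omega
  · intro i hi
    have : i = Fin.last (n + 1) := by
      apply Fin.ext
      rw [hi]
      simp
    rw [this, rot_apply_last]

theorem rot_injOn (n N : ℕ) : Set.InjOn (rot n N) (alcove (n + 2) N : Set (Fin (n + 2) → ℕ)) := by
  intro v hv u hu h
  rw [Finset.mem_coe] at hv hu
  unfold alcove at hv hu
  rw [Finset.mem_filter, mem_box] at hv hu
  obtain ⟨hlt, hanti, hz⟩ := hv
  obtain ⟨hlt', hanti', hz'⟩ := hu
  have hpre : preRot n N v = preRot n N u := by
    unfold rot at h
    funext j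
    have := congrFun h ((finRotate (n + 2)).symm j)
    simpa using this
  have hlast : (Fin.last (n + 1) : Fin (n + 2)) = ⟨n + 1, by omega⟩ := rfl
  have hvl : v (Fin.last (n + 1)) = 0 := hz _ (by simp)
  have hul : u (Fin.last (n + 1)) = 0 := hz' _ (by simp)
  have h1 := congrFun hpre (Fin.last (n + 1))
  unfold preRot at h1
  simp only [Fin.val_last] at h1
  rw [if_neg (by omega), if_neg (by omega), hvl, hul] at h1
  have hv0 := hlt 0
  have hu0 := hlt' 0
  have h00 : v 0 = u 0 := by omega
  funext j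
  by_cases hj : (j : ℕ) = 0
  · have : j = 0 := Fin.ext hj
    rw [this, h00]
  · have h2 := congrFun hpre j
    unfold preRot at h2
    rw [if_neg hj, if_neg hj] at h2
    omega

theorem sum_rot (n N : ℕ) (G : (Fin (n + 2) → ℕ) → ℂ) :
    ∑ v ∈ alcove (n + 2) N, G (rot n N v) = ∑ v ∈ alcove (n + 2) N, G v := by
  rw [← Finset.sum_image (f := G) (g := rot n N) (rot_injOn n N)]
  congr 1
  apply Finset.eq_of_subset_of_card_le
  · intro x hx
    rw [Finset.mem_image] at hx
    obtain ⟨v, hv, rfl⟩ := hx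
    exact rot_mem_alcove n N hv
  · rw [Finset.card_image_of_injOn (rot_injOn n N)]

/-- vanishing of twisted alcove sums -/
theorem alcove_sum_eq_zero_of_twist (n N : ℕ) (G : (Fin (n + 2) → ℕ) → ℂ) (ω : ℂ) (hω : ω ≠ 1)
    (hsymm : ∀ (f : Fin (n + 2) → ℕ) (σ : Perm (Fin (n + 2))), G (f ∘ σ) = G f)
    (htrans : ∀ (f : Fin (n + 2) → ℕ) (c : ℕ), G (fun j => f j + c) = G f)
    (hq : ∀ f : Fin (n + 2) → ℕ, G (fun j => f j + if (j : ℕ) = 0 then N else 0) = ω * G f) :
    ∑ v ∈ alcove (n + 2) N, G v = 0 := by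
  have h1 : ∀ v ∈ alcove (n + 2) N, G v = ω * G (rot n N v) := by
    intro v hv
    unfold alcove at hv
    rw [Finset.mem_filter, mem_box] at hv
    obtain ⟨hlt, hanti, hz⟩ := hv
    unfold rot
    rw [hsymm, ← hq, ← htrans v (N - v 0)]
    congr 1
    funext j
    unfold preRot
    have := hlt 0
    by_cases hj : (j : ℕ) = 0
    · have : j = 0 := Fin.ext hj
      subst this
      simp only [Fin.val_zero, if_true]
      omega
    · rw [if_neg hj, if_neg hj, add_zero]
  have h2 : ∑ v ∈ alcove (n + 2) N, G v = ω * ∑ v ∈ alcove (n + 2) N, G v := by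
    conv_lhs => rw [Finset.sum_congr rfl h1, ← Finset.mul_sum, sum_rot]
  have h3 : (1 - ω) * ∑ v ∈ alcove (n + 2) N, G v = 0 := by
    linear_combination h2
  rcases mul_eq_zero.1 h3 with h | h
  · exact absurd (sub_eq_zero.1 h).symm hω
  · exact h

end Groth.Agent.H9.Verlinde
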