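import Mathlib
import Groth.Agent.Lib.Helper9.Verlinde.Exp

/-!
# Integer-indexed roots of unity (helper9)
-/

set_option autoImplicit false

namespace Groth.Agent.H9.Verlinde

open Finset Equiv ComplexConjugate Complex

/-- `exp (2πi n / M)` -/
noncomputable def zexp (M : ℕ) (n : ℤ) : ℂ :=
  Complex.exp (2 * Real.pi * Complex.I * (n : ℂ) / (M : ℂ))

theorem zexp_add (M : ℕ) (a b : ℤ) : zexp M (a + b) = zexp M a * zexp M b := by
  unfold zexp
  rw [← Complex.exp_add]
  congr 1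
  push_cast
  ring

theorem zexp_zero (M : ℕ) : zexp M 0 = 1 := by
  unfold zexp
  simp

theorem zexp_neg (M : ℕ) (a : ℤ) : zexp M (-a) = (zexp M a)⁻¹ := by
  unfold zexp
  rw [← Complex.exp_neg]
  congr 1
  push_cast
  ring

theorem zexp_ne_zero (M : ℕ) (a : ℤ) : zexp M a ≠ 0 := Complex.exp_ne_zero _

theorem zexp_pow (M : ℕ) (a : ℤ) (n : ℕ) : zexp M a ^ n = zexp M (n * a) := by
  unfold zexp
  rw [← Complex.exp_nat_mul]
  congr 1
  push_cast
  ring

theorem zexp_eq_one_iff (M : ℕ) (hM : 0 < M) (a : ℤ) : zexp M a = 1 ↔ (M : ℤ) ∣ a := by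
  unfold zexp
  rw [Complex.exp_eq_one_iff]
  have hM' : (M : ℂ) ≠ 0 := by exact_mod_cast hM.ne'
  have hpi : (2 * (Real.pi : ℂ) * Complex.I) ≠ 0 := by
    simp [Real.pi_ne_zero]
  constructor
  · rintro ⟨n, hn⟩
    refine ⟨n, ?_⟩
    have h1 : (a : ℂ) = (M : ℂ) * n := by
      field_simp at hn
      linear_combination hn
    exact_mod_cast h1
  · rintro ⟨n, rfl⟩
    refine ⟨n, ?_⟩
    push_cast
    field_simp

theorem zexp_conj (M : ℕ) (a : ℤ) : conj (zexp M a) = zexp M (-a) := by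
  unfold zexp
  rw [← Complex.exp_conj]
  congr 1
  simp only [map_div₀, map_mul, Complex.conj_I, Complex.conj_ofReal, map_natCast,
    map_ofNat, map_intCast]
  push_cast
  ring

theorem zexp_mul_left (M : ℕ) (c : ℕ) (hc : 0 < c) (a : ℤ) :
    zexp (c * M) (c * a) = zexp M a := by
  unfold zexp
  congr 1
  have hc' : (c : ℂ) ≠ 0 := by exact_mod_cast hc.ne'
  push_cast
  by_cases hM : (M : ℂ) = 0
  · rw [hM]
    simp
  · field_simp

theorem wpt_eq_zexp (r k : ℕ) (a : ℕ) : wpt r k a = zexp (r + k) a := by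
  unfold wpt zexp
  congr 1
  push_cast
  ring

end Groth.Agent.H9.Verlinde
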