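import Mathlib
import Groth.Agent.Lib.Helper9.Verlinde.Main
import Groth.Agent.Lib.Helper9.Verlinde.Rotate
import Groth.Agent.Lib.Helper9.Verlinde.ZExp
import Groth.Agent.Lib.Helper9.Verlinde.OrthArith

/-!
# Orthogonality of characters over the alcove (helper9)
-/

set_option autoImplicit false

namespace Groth.Agent.H9.Verlinde

open Finset Equiv ComplexConjugate Complex

variable {r : ℕ}

/-- the summand -/
noncomputable def Eterm (r k : ℕ) (θ : ℂ) (α β : Fin r → ℕ) (v : Fin r → ℕ) : ℂ :=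
  θ ^ (∑ j, v j) * alt (fun j => wpt r k (v j)) α * conj (alt (fun j => wpt r k (v j)) β)

theorem Eterm_symm (k : ℕ) (θ : ℂ) (α β : Fin r → ℕ) (f : Fin r → ℕ) (σ : Perm (Fin r)) :
    Eterm r k θ α β (f ∘ σ) = Eterm r k θ α β f := by
  unfold Eterm
  have h1 : ∑ j, (f ∘ σ) j = ∑ j, f j := Equiv.sum_comp σ f
  have h2 : (fun j => wpt r k ((f ∘ σ) j)) = (fun j => wpt r k (f j)) ∘ σ := rfl
  rw [h1, h2, alt_comp_perm_col, alt_comp_perm_col, map_mul, conj_sign]
  have := sign_mul_self σ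
  set a := alt (fun j => wpt r k (f j)) α
  set b := conj (alt (fun j => wpt r k (f j)) β)
  set s := ((Perm.sign σ : ℤ) : ℂ)
  linear_combination (θ ^ (∑ j, f j) * a * b) * this

theorem Eterm_inj (k : ℕ) (θ : ℂ) (α β : Fin r → ℕ) (f : Fin r → ℕ)
    (hf : ¬ Function.Injective f) : Eterm r k θ α β f = 0 := by
  unfold Eterm
  have h : ¬ Function.Injective (fun j => wpt r k (f j)) := fun hinj =>
    hf (Function.Injective.of_comp (f := wpt r k) hinj)
  rw [alt_eq_zero_col α h, mul_zero, zero_mul]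

theorem Eterm_trans (k : ℕ) (θ : ℂ) (α β : Fin r → ℕ)
    (hθ : θ ^ r * wpt r k 1 ^ (∑ i, α i) * conj (wpt r k 1) ^ (∑ i, β i) = 1)
    (f : Fin r → ℕ) (c : ℕ) :
    Eterm r k θ α β (fun j => f j + c) = Eterm r k θ α β f := by
  unfold Eterm
  have h1 : ∑ j, (f j + c) = ∑ j, f j + r * c := by
    rw [Finset.sum_add_distrib, Finset.sum_const, Finset.card_univ, Fintype.card_fin, smul_eq_mul]
  have h2 : (fun j => wpt r k (f j + c)) = fun j => wpt r k c * wpt r k (f j) := by
    funext j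
    rw [wpt_add, mul_comm]
  have hu : wpt r k c = wpt r k 1 ^ c := by rw [← wpt_mul_nat, one_mul]
  rw [h1, h2, alt_smul, alt_smul, map_mul, map_pow]
  set A := ∑ i, α i
  set B := ∑ i, β i
  have key : θ ^ (r * c) * wpt r k c ^ A * conj (wpt r k c) ^ B = 1 := by
    have : θ ^ (r * c) * wpt r k c ^ A * conj (wpt r k c) ^ B =
        (θ ^ r * wpt r k 1 ^ A * conj (wpt r k 1) ^ B) ^ c := by
      rw [hu, map_pow]
      ring
    rw [this, hθ, one_pow]
  set a := alt (fun j => wpt r k (f j)) α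
  set b := conj (alt (fun j => wpt r k (f j)) β)
  rw [pow_add]
  linear_combination (θ ^ (∑ j, f j) * a * b) * key

theorem Eterm_q0 (n k : ℕ) (θ : ℂ) (α β : Fin (n + 2) → ℕ) (f : Fin (n + 2) → ℕ) :
    Eterm (n + 2) k θ α β (fun j => f j + if (j : ℕ) = 0 then (n + 2 + k) else 0) =
      θ ^ (n + 2 + k) * Eterm (n + 2) k θ α β f := by
  unfold Eterm
  have h1 : ∑ j : Fin (n + 2), (f j + if (j : ℕ) = 0 then (n + 2 + k) else 0) =
      ∑ j, f j + (n + 2 + k) := by
    rw [Finset.sum_add_distrib]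
    congr 1
    rw [Finset.sum_eq_single (0 : Fin (n + 2))]
    · simp
    · intro j _ hj
      rw [if_neg]
      intro h
      exact hj (Fin.ext h)
    · intro h
      exact absurd (Finset.mem_univ _) h
  have h2 : (fun j : Fin (n + 2) => wpt (n + 2) k (f j + if (j : ℕ) = 0 then (n + 2 + k) else 0)) =
      fun j => wpt (n + 2) k (f j) := by
    funext j
    rw [wpt_add]
    by_cases hj : (j : ℕ) = 0
    · rw [if_pos hj, wpt_self (n + 2) k (by omega), mul_one]
    · rw [if_neg hj, wpt_zero, mul_one]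
  rw [h1, h2, pow_add]
  ring

theorem Eterm_per (k : ℕ) (hr : 1 ≤ r) (θ : ℂ) (α β : Fin r → ℕ) (hθN : θ ^ (r + k) = 1)
    (f f' : Fin r → ℕ) (h : ∀ j, f j % (r + k) = f' j % (r + k)) :
    Eterm r k θ α β f = Eterm r k θ α β f' := by
  have hN : 1 ≤ r + k := by omega
  have key : ∀ g : Fin r → ℕ, Eterm r k θ α β g =
      (∏ j, θ ^ (g j % (r + k))) * alt (fun j => wpt r k (g j % (r + k))) α *
        conj (alt (fun j => wpt r k (g j % (r + k))) β) := by
    intro g
    unfold Eterm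
    rw [← Finset.prod_pow_eq_pow_sum]
    have h1 : ∀ j, θ ^ (g j) = θ ^ (g j % (r + k)) := fun j => pow_eq_pow_mod (g j) hθN
    have h2 : (fun j => wpt r k (g j % (r + k))) = fun j => wpt r k (g j) := by
      funext j
      exact wpt_mod r k hN (g j)
    rw [h2, Finset.prod_congr rfl fun j _ => h1 j]
  rw [key f, key f']
  simp only [h]

theorem Eterm_box_sum (k : ℕ) (θ : ℂ) (α β : Fin r → ℕ) :
    ∑ f ∈ box r (r + k), Eterm r k θ α β f =
      (r.factorial : ℂ) * (Matrix.of fun i i' : Fin r =>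
        ∑ x ∈ Finset.range (r + k), (θ * wpt r k (α i) * conj (wpt r k (β i'))) ^ x).det := by
  have h := cauchy_binet (r := r) (r + k) (fun i x => θ ^ x * wpt r k x ^ α i)
    (fun i x => conj (wpt r k x) ^ β i)
  have h1 : ∀ f : Fin r → ℕ,
      (Matrix.of fun i j : Fin r => θ ^ (f j) * wpt r k (f j) ^ α i).det *
        (Matrix.of fun i j : Fin r => conj (wpt r k (f j)) ^ β i).det = Eterm r k θ α β f := by
    intro f
    unfold Eterm
    rw [conj_alt]
    have e1 : (Matrix.of fun i j : Fin r => θ ^ (f j) * wpt r k (f j) ^ α i) =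
        Matrix.of fun i j : Fin r => (fun j => θ ^ (f j)) j *
          (Matrix.of fun i j : Fin r => wpt r k (f j) ^ α i) i j := by
      ext i j
      simp
    rw [e1, Matrix.det_mul_row, Finset.prod_pow_eq_pow_sum]
    rfl
  have h2 : ∀ i i' : Fin r,
      ∑ x ∈ Finset.range (r + k), θ ^ x * wpt r k x ^ α i * conj (wpt r k x) ^ β i' =
        ∑ x ∈ Finset.range (r + k), (θ * wpt r k (α i) * conj (wpt r k (β i'))) ^ x := by
    intro i i'
    refine Finset.sum_congr rfl fun x _ => ?_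
    rw [mul_pow, mul_pow, wpt_pow_comm r k x (α i), ← map_pow, wpt_pow_comm r k x (β i'), map_pow]
  simp only [h1, h2] at h
  exact h

theorem geom_root' {N : ℕ} {q : ℂ} (hq : q ^ N = 1) :
    ∑ x ∈ Finset.range N, q ^ x = if q = 1 then (N : ℂ) else 0 := by
  by_cases h : q = 1
  · rw [if_pos h, h]
    simp
  · rw [if_neg h]
    have h1 : (∑ x ∈ Finset.range N, q ^ x) * (q - 1) = 0 := by
      rw [geom_sum_mul, hq, sub_self]
    rcases mul_eq_zero.1 h1 with h2 | h2
    · exact h2
    · exact absurd (sub_eq_zero.1 h2) h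

/-- **Orthogonality over the alcove.** -/
theorem orth (k : ℕ) (hr : 1 ≤ r) (α β : Fin r → ℕ)
    (hα : StrictAnti α) (hαlt : ∀ i, α i < r + k) (hβ : StrictAnti β) (hβlt : ∀ i, β i < r + k)
    (hne : ¬ ∃ a : ℤ, ∀ i, (α i : ℤ) - (β i : ℤ) = a)
    (θ : ℂ) (hθ : θ = zexp (r * (r + k)) (-((∑ i, (α i : ℤ)) - ∑ i, (β i : ℤ)))) :
    ∑ v ∈ alcove r (r + k), Eterm r k θ α β v = 0 := by
  have hN : 1 ≤ r + k := by omega
  have hrN : 0 < r * (r + k) := Nat.mul_pos (by omega) (by omega)
  set D : ℤ := (∑ i, (α i : ℤ)) - ∑ i, (β i : ℤ) with hD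
  have hw : ∀ a : ℕ, wpt r k a = zexp (r * (r + k)) (r * (a : ℤ)) := by
    intro a
    rw [wpt_eq_zexp]
    have := zexp_mul_left (r + k) r (by omega) (a : ℤ)
    rw [← this]
  -- the translation condition
  have htr : θ ^ r * wpt r k 1 ^ (∑ i, α i) * conj (wpt r k 1) ^ (∑ i, β i) = 1 := by
    rw [hθ, hw, zexp_conj, zexp_pow, zexp_pow, zexp_pow, ← zexp_add, ← zexp_add]
    rw [zexp_eq_one_iff _ hrN]
    refine ⟨0, ?_⟩
    rw [hD]
    push_cast
    ring
  have hθN : θ ^ (r + k) = 1 ↔ (r : ℤ) ∣ D := by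
    rw [hθ, zexp_pow, zexp_eq_one_iff _ hrN]
    push_cast
    constructor
    · rintro ⟨c, hc⟩
      refine ⟨-c, ?_⟩
      have hNz : ((r : ℤ) + k) ≠ 0 := by
        have : (0 : ℤ) < (r : ℤ) + k := by exact_mod_cast hN
        exact this.ne'
      have : ((r : ℤ) + k) * D = ((r : ℤ) + k) * (r * -c) := by
        linear_combination -hc
      exact mul_left_cancel₀ hNz this
    · rintro ⟨c, hc⟩
      refine ⟨-c, ?_⟩
      rw [hc]
      ring
  by_cases hcase : θ ^ (r + k) = 1
  · -- Case B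
    obtain ⟨D', hD'⟩ := hθN.1 hcase
    have h1 := alcove_sum (r + k) hr (Eterm r k θ α β) (Eterm_symm k θ α β) (Eterm_inj k θ α β)
      (Eterm_per k hr θ α β hcase) (Eterm_trans k θ α β htr)
    rw [Eterm_box_sum] at h1
    have hdet : (Matrix.of fun i i' : Fin r =>
        ∑ x ∈ Finset.range (r + k), (θ * wpt r k (α i) * conj (wpt r k (β i'))) ^ x).det = 0 := by
      rw [Matrix.det_apply]
      apply Finset.sum_eq_zero
      intro π _
      have hq : ∀ i i' : Fin r, θ * wpt r k (α i) * conj (wpt r k (β i')) =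
          zexp (r * (r + k)) (-(r * D') + r * (α i : ℤ) - r * (β i' : ℤ)) := by
        intro i i'
        rw [hθ, hw, hw, zexp_conj, ← zexp_add, ← zexp_add, hD']
        congr 1
      have hex : ∃ i, θ * wpt r k (α (π i)) * conj (wpt r k (β i)) ≠ 1 := by
        by_contra hall
        push Not at hall
        apply hne
        refine ⟨D', ?_⟩
        apply arith_key (r + k) (by omega) (by omega) α β hα hαlt hβ hβlt π D'
        · rw [← hD']
        · intro i
          have := hall i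
          rw [hq, zexp_eq_one_iff _ hrN] at this
          exact this
      obtain ⟨i, hi⟩ := hex
      have hzero : ∏ i, (Matrix.of fun i i' : Fin r =>
          ∑ x ∈ Finset.range (r + k), (θ * wpt r k (α i) * conj (wpt r k (β i'))) ^ x) (π i) i = 0 := by
        apply Finset.prod_eq_zero (Finset.mem_univ i)
        simp only [Matrix.of_apply]
        rw [geom_root', if_neg hi]
        rw [mul_pow, mul_pow, hcase, wpt_pow r k hN, ← map_pow, wpt_pow r k hN, map_one, one_mul,
          one_mul]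
      rw [hzero, smul_zero]
    rw [hdet, mul_zero, smul_zero, nsmul_eq_mul] at h1
    rcases mul_eq_zero.1 h1 with h2 | h2
    · exfalso
      have : ((r + k) * r.factorial : ℕ) ≠ 0 :=
        Nat.mul_ne_zero (by omega) (Nat.factorial_ne_zero r)
      exact this (by exact_mod_cast h2)
    · exact h2
  · -- Case A
    have hr2 : 2 ≤ r := by
      by_contra hlt
      have hr1 : r = 1 := by omega
      apply hcase
      rw [hθN, hr1]
      simp
    obtain ⟨n, rfl⟩ : ∃ n, r = n + 2 := ⟨r - 2, by omega⟩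
    apply alcove_sum_eq_zero_of_twist n (n + 2 + k) (Eterm (n + 2) k θ α β) (θ ^ (n + 2 + k)) hcase
      (Eterm_symm k θ α β) (Eterm_trans k θ α β htr)
    intro f
    exact Eterm_q0 n k θ α β f

end Groth.Agent.H9.Verlinde
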