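import Mathlib
import Groth.Agent.Lib.Helper9.Verlinde.Orth

/-!
# The norm sum over the alcove (helper9)
-/

set_option autoImplicit false

namespace Groth.Agent.H9.Verlinde

open Finset Equiv ComplexConjugate Complex

variable {r : ℕ}

theorem rho_lt (i : Fin r) : rho r i < r := by
  unfold rho
  have := i.2
  omega

theorem rho_injective : Function.Injective (rho r) := by
  intro i j h
  unfold rho at h
  apply Fin.ext
  have := i.2
  have := j.2
  omega

theorem alcove_norm_sum (k : ℕ) (hr : 1 ≤ r) :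
    ∑ v ∈ alcove r (r + k), Eterm r k 1 (rho r) (rho r) v = (r : ℂ) * ((r : ℂ) + k) ^ (r - 1) := by
  have hN : 1 ≤ r + k := by omega
  have htr : (1 : ℂ) ^ r * wpt r k 1 ^ (∑ i, rho r i) * conj (wpt r k 1) ^ (∑ i, rho r i) = 1 := by
    rw [one_pow, one_mul, ← mul_pow, wpt_mul_conj r k hN, one_pow]
  have h1 := alcove_sum (r + k) hr (Eterm r k 1 (rho r) (rho r)) (Eterm_symm k 1 _ _)
    (Eterm_inj k 1 _ _) (Eterm_per k hr 1 _ _ (one_pow _)) (Eterm_trans k 1 _ _ htr)
  rw [Eterm_box_sum] at h1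
  have hC : (Matrix.of fun i i' : Fin r =>
      ∑ x ∈ Finset.range (r + k), ((1 : ℂ) * wpt r k (rho r i) * conj (wpt r k (rho r i'))) ^ x) =
      Matrix.diagonal fun _ => ((r + k : ℕ) : ℂ) := by
    ext i i'
    simp only [Matrix.of_apply]
    have hq : ((1 : ℂ) * wpt r k (rho r i) * conj (wpt r k (rho r i'))) ^ (r + k) = 1 := by
      rw [mul_pow, mul_pow, one_pow, wpt_pow r k hN, ← map_pow, wpt_pow r k hN, map_one, one_mul,
        one_mul]
    rw [geom_root' hq]
    by_cases hii : i = i'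
    · subst hii
      rw [Matrix.diagonal_apply_eq, if_pos]
      rw [one_mul, wpt_mul_conj r k hN]
    · rw [Matrix.diagonal_apply_ne _ hii, if_neg]
      intro h
      apply hii
      apply rho_injective
      apply wpt_injOn r k hN (lt_of_lt_of_le (rho_lt i) (by omega))
        (lt_of_lt_of_le (rho_lt i') (by omega))
      have h2 := wpt_mul_conj r k hN (rho r i')
      calc wpt r k (rho r i) = wpt r k (rho r i) * (wpt r k (rho r i') * conj (wpt r k (rho r i'))) := by
            rw [h2, mul_one]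
        _ = ((1 : ℂ) * wpt r k (rho r i) * conj (wpt r k (rho r i'))) * wpt r k (rho r i') := by ring
        _ = wpt r k (rho r i') := by rw [h, one_mul]
  rw [hC, Matrix.det_diagonal, Finset.prod_const, Finset.card_univ, Fintype.card_fin] at h1
  rw [nsmul_eq_mul, nsmul_eq_mul] at h1
  have hfact : ((r.factorial : ℕ) : ℂ) ≠ 0 := by exact_mod_cast Nat.factorial_ne_zero r
  have hNc : (((r + k : ℕ)) : ℂ) ≠ 0 := by
    have : (r + k : ℕ) ≠ 0 := by omega
    exact_mod_cast this
  have hcast : ((r : ℂ) + k) = ((r + k : ℕ) : ℂ) := by push_cast; ring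
  rw [hcast]
  have hpow : (((r + k : ℕ)) : ℂ) ^ r = ((r + k : ℕ) : ℂ) * ((r + k : ℕ) : ℂ) ^ (r - 1) := by
    rw [← pow_succ']
    congr 1
    omega
  rw [hpow] at h1
  have h2 : ((r + k : ℕ) : ℂ) * (r.factorial : ℂ) *
      (∑ v ∈ alcove r (r + k), Eterm r k 1 (rho r) (rho r) v) =
      ((r + k : ℕ) : ℂ) * (r.factorial : ℂ) * ((r : ℂ) * ((r + k : ℕ) : ℂ) ^ (r - 1)) := by
    push_cast at h1 ⊢
    linear_combination h1
  exact mul_left_cancel₀ (mul_ne_zero hNc hfact) h2

/-- S18379 -/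
theorem norm_sum (r k : ℕ) (hr : 1 ≤ r) (hk : 1 ≤ k) :
    (∑ v ∈ (Finset.univ : Finset (Fin r → Fin (r + k))).filter
        (fun v : Fin r → Fin (r + k) => StrictAnti v ∧ ∀ i : Fin r, (i : ℕ) = r - 1 → (v i : ℕ) = 0),
      ∏ p ∈ (Finset.univ : Finset (Fin r × Fin r)).filter (fun p => p.1 < p.2),
        ((2 : ℝ) * Real.sin (Real.pi * ((v p.1 : ℕ) - (v p.2 : ℕ) : ℝ) / ((r : ℝ) + k))) ^ 2) =
      (r : ℝ) * ((r : ℝ) + k) ^ (r - 1) := by
  have hN : 1 ≤ r + k := by omega
  apply Complex.ofReal_injective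
  push_cast
  have h := alcove_norm_sum (r := r) k hr
  unfold alcove at h
  rw [← sum_fin_eq (r + k) (fun w : Fin r → ℕ => StrictAnti w ∧ LastZero w)
    (Eterm r k 1 (rho r) (rho r))] at h
  rw [← h]
  apply Finset.sum_congr
  · ext v
    simp only [Finset.mem_filter, Finset.mem_univ, true_and, strictAnti_val_iff, LastZero]
  · intro v _
    unfold Eterm
    rw [one_pow, one_mul, alt_rho_normSq_wpt r k hN]
    push_cast
    rfl

end Groth.Agent.H9.Verlinde
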