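import Mathlib
import Groth.Agent.Lib.Helper9.Verlinde.Main2

/-!
# Orthogonality statements (helper9)
-/

set_option autoImplicit false

namespace Groth.Agent.H9.Verlinde

open Finset Equiv ComplexConjugate Complex

variable {r : ℕ}

theorem alt_transpose (r k : ℕ) (v lam : Fin r → ℕ) :
    alt (fun j => wpt r k (v j)) lam = alt (fun j => wpt r k (lam j)) v := by
  unfold alt
  rw [← Matrix.det_transpose]
  congr 1
  ext i j
  simp only [Matrix.transpose_apply, Matrix.of_apply]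
  exact wpt_pow_comm r k _ _

theorem exp_phase (r k : ℕ) (m s : ℕ) :
    Complex.exp (-(2 * Real.pi * Complex.I * (m : ℂ) * (s : ℂ) / ((r : ℂ) * ((r : ℂ) + k)))) =
      zexp (r * (r + k)) (-(s : ℤ)) ^ m := by
  rw [zexp_pow]
  unfold zexp
  congr 1
  push_cast
  ring

theorem sum_dual_weight' (k : ℕ) (w : Fin r → ℕ) (hw : ∀ i, w i ≤ k) :
    (∑ i, w i) + (∑ i, (k - w (Fin.rev i))) = r * k := by
  have h1 : ∑ i : Fin r, (k - w (Fin.rev i)) = ∑ i : Fin r, (k - w i) :=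
    Equiv.sum_comp Fin.revPerm (fun i => k - w i)
  rw [h1, ← Finset.sum_add_distrib]
  have h2 : ∀ i : Fin r, w i + (k - w i) = k := fun i => by
    have := hw i
    omega
  simp only [h2, Finset.sum_const, Finset.card_univ, Fintype.card_fin, smul_eq_mul]

/-- S18378 -/
theorem dual_orth (r k : ℕ) (hr : 1 ≤ r)
    (hk : 1 ≤ k) (v v' : Fin r → ℕ) (hv : StrictAnti v) (hvlt : ∀ i, v i < r + k) (hv' : StrictAnti v')
    (hv'lt : ∀ i, v' i < r + k) (hne : ¬ ∃ a : ℤ, ∀ i, (v i : ℤ) - (v' i : ℤ) = a)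
    (z z' : Fin r → ℂ) (hz : ∀ j, z j = Complex.exp (2 * Real.pi * Complex.I * (v j : ℂ) / ((r : ℂ) + k)))
    (hz' : ∀ j, z' j = Complex.exp (2 * Real.pi * Complex.I * (v' j : ℂ) / ((r : ℂ) + k)))
    (S S' : (Fin r → ℕ) → ℂ)
    (hS : ∀ μ : Fin r → ℕ, S μ =
      (Matrix.of fun i j : Fin r => z j ^ (μ i + (r - 1 - (i : ℕ)))).det /
        (Matrix.of fun i j : Fin r => z j ^ (r - 1 - (i : ℕ))).det)
    (hS' : ∀ μ : Fin r → ℕ, S' μ =
      (Matrix.of fun i j : Fin r => z' j ^ (μ i + (r - 1 - (i : ℕ)))).det /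
        (Matrix.of fun i j : Fin r => z' j ^ (r - 1 - (i : ℕ))).det) :
    (∑ μ ∈ (Finset.univ : Finset (Fin r → Fin (k + 1))).filter
        (fun μ : Fin r → Fin (k + 1) => Antitone μ ∧ ∀ i : Fin r, (i : ℕ) = r - 1 → (μ i : ℕ) = 0),
      Complex.exp (-(2 * Real.pi * Complex.I * ((∑ i, (μ i : ℕ) : ℕ) : ℂ) * ((∑ j, v j : ℕ) : ℂ) /
          ((r : ℂ) * ((r : ℂ) + k)))) *
      Complex.exp (-(2 * Real.pi * Complex.I * ((∑ i, (k - (μ (Fin.rev i) : ℕ)) : ℕ) : ℂ) *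
          ((∑ j, v' j : ℕ) : ℂ) / ((r : ℂ) * ((r : ℂ) + k)))) *
      S (fun i => (μ i : ℕ)) * S' (fun i => k - (μ (Fin.rev i) : ℕ))) = 0 := by
  have hN : 1 ≤ r + k := by omega
  have hzw : z = fun j => wpt r k (v j) := funext hz
  have hzw' : z' = fun j => wpt r k (v' j) := funext hz'
  have hSa : ∀ μ : Fin r → ℕ, S μ = alt z (fun i => μ i + rho r i) / alt z (rho r) := by
    intro μ
    rw [hS]
    rfl
  have hSa' : ∀ μ : Fin r → ℕ, S' μ = alt z' (fun i => μ i + rho r i) / alt z' (rho r) := by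
    intro μ
    rw [hS']
    rfl
  -- conversion to ℕ-valued tuples
  have hconv := sum_fin_eq (r := r) (k + 1) (fun w : Fin r → ℕ => Antitone w ∧ LastZero w)
    (fun w => Complex.exp (-(2 * Real.pi * Complex.I * ((∑ i, w i : ℕ) : ℂ) * ((∑ j, v j : ℕ) : ℂ) /
          ((r : ℂ) * ((r : ℂ) + k)))) *
      Complex.exp (-(2 * Real.pi * Complex.I * ((∑ i, (k - w (Fin.rev i)) : ℕ) : ℂ) *
          ((∑ j, v' j : ℕ) : ℂ) / ((r : ℂ) * ((r : ℂ) + k)))) *
      S w * S' (fun i => k - w (Fin.rev i)))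
  have hfilter : (Finset.univ : Finset (Fin r → Fin (k + 1))).filter
        (fun μ : Fin r → Fin (k + 1) => Antitone μ ∧ ∀ i : Fin r, (i : ℕ) = r - 1 → (μ i : ℕ) = 0) =
      (Finset.univ : Finset (Fin r → Fin (k + 1))).filter
        (fun μ => (fun w : Fin r → ℕ => Antitone w ∧ LastZero w) (fun i => (μ i : ℕ))) := by
    ext μ
    simp only [Finset.mem_filter, antitone_val_iff, LastZero]
  rw [hfilter, hconv]
  -- constants
  set c₁ : ℂ := zexp (r * (r + k)) (-((∑ j, v j : ℕ) : ℤ)) with hc₁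
  set c₂ : ℂ := zexp (r * (r + k)) (-((∑ j, v' j : ℕ) : ℤ)) with hc₂
  set θ : ℂ := c₁ * c₂⁻¹ with hθdef
  have hc₂0 : c₂ ≠ 0 := zexp_ne_zero _ _
  have hθ0 : θ ≠ 0 := mul_ne_zero (zexp_ne_zero _ _) (inv_ne_zero hc₂0)
  have hθ : θ = zexp (r * (r + k)) (-((∑ i, (v i : ℤ)) - ∑ i, (v' i : ℤ))) := by
    rw [hθdef, hc₁, hc₂, ← zexp_neg, ← zexp_add]
    congr 1
    push_cast
    ring
  have horth := orth k hr v v' hv hvlt hv' hv'lt hne θ hθ
  -- the unimodular points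
  have hconj' : ∀ j, conj (z' j) = (z' j)⁻¹ := by
    intro j
    rw [hzw']
    exact conj_eq_inv_of_pow_eq_one hN (wpt_pow r k hN _)
  have hz0' : ∀ j, z' j ≠ 0 := by
    intro j
    rw [hzw']
    exact ne_zero_of_pow_eq_one hN (wpt_pow r k hN _)
  set K : ℂ := c₂ ^ (r * k) * (θ ^ (∑ i, rho r i))⁻¹ * (eps r * (∏ j, z' j) ^ (r + k - 1)) /
    (alt z (rho r) * alt z' (rho r)) with hK
  have hterm : ∀ w ∈ (box r (k + 1)).filter (fun w : Fin r → ℕ => Antitone w ∧ LastZero w),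
      Complex.exp (-(2 * Real.pi * Complex.I * ((∑ i, w i : ℕ) : ℂ) * ((∑ j, v j : ℕ) : ℂ) /
          ((r : ℂ) * ((r : ℂ) + k)))) *
      Complex.exp (-(2 * Real.pi * Complex.I * ((∑ i, (k - w (Fin.rev i)) : ℕ) : ℂ) *
          ((∑ j, v' j : ℕ) : ℂ) / ((r : ℂ) * ((r : ℂ) + k)))) *
      S w * S' (fun i => k - w (Fin.rev i)) =
      K * Eterm r k θ v v' (fun i => w i + rho r i) := by
    intro w hw
    rw [Finset.mem_filter, mem_box] at hw
    have hwk : ∀ i, w i ≤ k := fun i => Nat.lt_succ_iff.1 (hw.1 i)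
    rw [exp_phase, exp_phase, hSa, hSa']
    have hdual := alt_dual hconj' hz0' (fun i => w i + rho r i)
      (fun i => (k - w (Fin.rev i)) + rho r i) (r + k - 1) (by
        intro i
        have := hwk (Fin.rev i)
        have hi := i.2
        simp only [rho, Fin.val_rev]
        omega)
    rw [hdual]
    unfold Eterm
    beta_reduce
    rw [← alt_transpose r k v (fun i => w i + rho r i),
      ← alt_transpose r k v' (fun i => w i + rho r i), ← hzw, ← hzw']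
    have hsum := sum_dual_weight' k w hwk
    have hpow1 : c₁ ^ (∑ i, w i) * c₂ ^ (∑ i, (k - w (Fin.rev i))) =
        θ ^ (∑ i, w i) * c₂ ^ (r * k) := by
      rw [hθdef, ← hsum, mul_pow, pow_add, inv_pow]
      field_simp
    have hpow2 : θ ^ (∑ i, (w i + rho r i)) = θ ^ (∑ i, w i) * θ ^ (∑ i, rho r i) := by
      rw [Finset.sum_add_distrib, pow_add]
    rw [hpow2, hK]
    have hθρ : θ ^ (∑ i, rho r i) ≠ 0 := pow_ne_zero _ hθ0
    set a := alt z (fun i => w i + rho r i)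
    set b := conj (alt z' (fun i => w i + rho r i))
    set P := (∏ j, z' j) ^ (r + k - 1)
    set d₁ := alt z (rho r)
    set d₂ := alt z' (rho r)
    calc c₁ ^ (∑ i, w i) * c₂ ^ (∑ i, (k - w (Fin.rev i))) * (a / d₁) * (eps r * P * b / d₂)
        = (c₁ ^ (∑ i, w i) * c₂ ^ (∑ i, (k - w (Fin.rev i)))) * ((a / d₁) * (eps r * P * b / d₂)) := by
          ring
      _ = (θ ^ (∑ i, w i) * c₂ ^ (r * k)) * ((a / d₁) * (eps r * P * b / d₂)) := by rw [hpow1]
      _ = c₂ ^ (r * k) * (θ ^ (∑ i, rho r i))⁻¹ * (eps r * P) / (d₁ * d₂) *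
            (θ ^ (∑ i, w i) * θ ^ (∑ i, rho r i) * a * b) := by
          field_simp
  rw [Finset.sum_congr rfl hterm, ← Finset.mul_sum,
    sum_shift_lastZero (k + 1) (Eterm r k θ v v')]
  have hkr : k + 1 + r - 1 = r + k := by omega
  rw [hkr]
  unfold alcove at horth
  rw [horth, mul_zero]

end Groth.Agent.H9.Verlinde
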