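import Mathlib
import Groth.Agent.Lib.Helper9.Verlinde.Main3

/-!
# Vanishing of the two-point genus-zero Verlinde number (helper9)
-/

set_option autoImplicit false

namespace Groth.Agent.H9.Verlinde

open Finset Equiv ComplexConjugate Complex

variable {r : ℕ}

theorem alt_add_const (z : Fin r → ℂ) (lam : Fin r → ℕ) (c : ℕ) :
    alt z (fun i => lam i + c) = (∏ j, z j) ^ c * alt z lam := by
  unfold alt
  have : (Matrix.of fun i j : Fin r => z j ^ (lam i + c)) =
      Matrix.of fun i j : Fin r => (fun j => z j ^ c) j *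
        (Matrix.of fun i j : Fin r => z j ^ lam i) i j := by
    ext i j
    simp only [Matrix.of_apply]
    rw [pow_add, mul_comm]
  rw [this, Matrix.det_mul_row, Finset.prod_pow]

theorem strictAnti_add_rho {lam : Fin r → ℕ} (h : Antitone lam) :
    StrictAnti (fun i => lam i + rho r i) := by
  intro i j hij
  have h1 := h hij.le
  have h2 : (i : ℕ) < j := hij
  have hj := j.2
  simp only [rho]
  omega

/-- S19895 -/
theorem two_point_vanishing (r k : ℕ) (hr : 2 ≤ r)
    (hk : 1 ≤ k) (lam lam' : Fin r → ℕ) (hlam : Antitone lam) (hlamk : ∀ i, lam i ≤ k)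
    (hlam0 : ∀ i : Fin r, (i : ℕ) = r - 1 → lam i = 0)
    (hlam' : Antitone lam') (hlam'k : ∀ i, lam' i ≤ k) (hlam'0 : ∀ i : Fin r, (i : ℕ) = r - 1 → lam' i = 0)
    (hne : ¬ ∃ a : ℤ, ∀ i, (lam i : ℤ) - ((k - lam' (Fin.rev i) : ℕ) : ℤ) = a)
    (z : (Fin r → ℕ) → Fin r → ℂ)
    (hz : ∀ v j, z v j = Complex.exp (2 * Real.pi * Complex.I * (v j : ℂ) / ((r : ℂ) + k)))
    (S : (Fin r → ℕ) → (Fin r → ℕ) → ℂ)
    (hS : ∀ μ v, S μ v = (Matrix.of fun i j : Fin r => z v j ^ (μ i + (r - 1 - (i : ℕ)))).det /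
        (Matrix.of fun i j : Fin r => z v j ^ (r - 1 - (i : ℕ))).det)
    (P : (Fin r → ℕ) → ℝ)
    (hP : ∀ v, P v = ∏ p ∈ (Finset.univ : Finset (Fin r × Fin r)).filter (fun p => p.1 < p.2),
        ((2 : ℝ) * Real.sin (Real.pi * ((v p.1 : ℝ) - (v p.2 : ℝ)) / ((r : ℝ) + k))) ^ 2) :
    (∑ v ∈ (Finset.univ : Finset (Fin r → Fin (r + k))).filter
        (fun v : Fin r → Fin (r + k) => StrictAnti v ∧ ∀ i : Fin r, (i : ℕ) = r - 1 → (v i : ℕ) = 0),
      Complex.exp (-(2 * Real.pi * Complex.I * (((∑ i, lam i) + (∑ i, lam' i) : ℕ) : ℂ) *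
          ((∑ j, (v j : ℕ) : ℕ) : ℂ) / ((r : ℂ) * ((r : ℂ) + k)))) *
        S lam (fun j => (v j : ℕ)) * S lam' (fun j => (v j : ℕ)) * (P (fun j => (v j : ℕ)) : ℂ)) = 0 := by
  have hr1 : 1 ≤ r := by omega
  have hN : 1 ≤ r + k := by omega
  have hrN : 0 < r * (r + k) := Nat.mul_pos (by omega) (by omega)
  -- the two strictly decreasing exponent vectors
  set α : Fin r → ℕ := fun i => lam i + rho r i with hα
  set lamd : Fin r → ℕ := fun i => k - lam' (Fin.rev i) with hlamd
  set β : Fin r → ℕ := fun i => lamd i + rho r i with hβ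
  have hlamd_anti : Antitone lamd := by
    intro i j hij
    have h1 : Fin.rev j ≤ Fin.rev i := Fin.rev_le_rev.2 hij
    have h2 := hlam' h1
    simp only [hlamd]
    omega
  have hαanti : StrictAnti α := strictAnti_add_rho hlam
  have hβanti : StrictAnti β := strictAnti_add_rho hlamd_anti
  have hαlt : ∀ i, α i < r + k := by
    intro i
    have := hlamk i
    have := rho_lt i
    simp only [hα]
    omega
  have hβlt : ∀ i, β i < r + k := by
    intro i
    have := rho_lt i
    simp only [hβ, hlamd]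
    omega
  have hne' : ¬ ∃ a : ℤ, ∀ i, (α i : ℤ) - (β i : ℤ) = a := by
    rintro ⟨a, ha⟩
    apply hne
    refine ⟨a, fun i => ?_⟩
    have := ha i
    simp only [hα, hβ, hlamd] at this
    push_cast at this ⊢
    linarith
  set θ : ℂ := zexp (r * (r + k)) (-((∑ i, (α i : ℤ)) - ∑ i, (β i : ℤ))) with hθ
  have horth := orth k hr1 α β hαanti hαlt hβanti hβlt hne' θ hθ
  -- sums of the exponent vectors
  have hsumd : (∑ i, lam' i) + (∑ i, lamd i) = r * k := sum_dual_weight' k lam' hlam'k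
  have hD : (∑ i, (α i : ℤ)) - ∑ i, (β i : ℤ) =
      ((∑ i, lam i : ℕ) : ℤ) + ((∑ i, lam' i : ℕ) : ℤ) - (r : ℤ) * k := by
    have h1 : ∑ i, (α i : ℤ) = ((∑ i, lam i : ℕ) : ℤ) + ((∑ i, rho r i : ℕ) : ℤ) := by
      simp only [hα]
      push_cast
      rw [Finset.sum_add_distrib]
    have h2 : ∑ i, (β i : ℤ) = ((∑ i, lamd i : ℕ) : ℤ) + ((∑ i, rho r i : ℕ) : ℤ) := by
      simp only [hβ]
      push_cast
      rw [Finset.sum_add_distrib]
    have h3 : ((∑ i, lam' i : ℕ) : ℤ) + ((∑ i, lamd i : ℕ) : ℤ) = (r : ℤ) * k := by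
      exact_mod_cast hsumd
    rw [h1, h2]
    linarith
  -- conversion to ℕ-valued tuples
  have hconv := sum_fin_eq (r := r) (r + k) (fun w : Fin r → ℕ => StrictAnti w ∧ LastZero w)
    (fun w => Complex.exp (-(2 * Real.pi * Complex.I * (((∑ i, lam i) + (∑ i, lam' i) : ℕ) : ℂ) *
          ((∑ j, w j : ℕ) : ℂ) / ((r : ℂ) * ((r : ℂ) + k)))) *
        S lam w * S lam' w * (P w : ℂ))
  have hfilter : (Finset.univ : Finset (Fin r → Fin (r + k))).filter
        (fun v : Fin r → Fin (r + k) => StrictAnti v ∧ ∀ i : Fin r, (i : ℕ) = r - 1 → (v i : ℕ) = 0) =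
      (Finset.univ : Finset (Fin r → Fin (r + k))).filter
        (fun v => (fun w : Fin r → ℕ => StrictAnti w ∧ LastZero w) (fun i => (v i : ℕ))) := by
    ext v
    simp only [Finset.mem_filter, strictAnti_val_iff, LastZero]
  rw [hfilter, hconv]
  unfold alcove at horth
  rw [← horth]
  refine Finset.sum_congr rfl fun w hw => ?_
  rw [Finset.mem_filter, mem_box] at hw
  obtain ⟨hwlt, hwanti, hwz⟩ := hw
  -- the point
  have hzw : z w = fun j => wpt r k (w j) := funext fun j => hz w j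
  set y : Fin r → ℂ := fun j => wpt r k (w j) with hy
  have hSa : ∀ μ : Fin r → ℕ, S μ w = alt y (fun i => μ i + rho r i) / alt y (rho r) := by
    intro μ
    rw [hS, hzw]
    rfl
  have hconj : ∀ j, conj (y j) = (y j)⁻¹ := fun j =>
    conj_eq_inv_of_pow_eq_one hN (wpt_pow r k hN _)
  have hy0 : ∀ j, y j ≠ 0 := fun j => ne_zero_of_pow_eq_one hN (wpt_pow r k hN _)
  have hPz0 : (∏ j, y j) ≠ 0 := Finset.prod_ne_zero_iff.2 fun j _ => hy0 j
  have hd0 : alt y (rho r) ≠ 0 :=
    alt_rho_ne_zero (wpt_injective r k hN hwanti.injective hwlt)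
  have hPc : ((P w : ℝ) : ℂ) = alt y (rho r) * conj (alt y (rho r)) := by
    rw [alt_rho_normSq_wpt r k hN, hP, Complex.ofReal_prod]
  -- duality for lam'
  have hdual1 := alt_dual hconj hy0 β (fun i => lam' i + rho r i) (r + k - 1) (by
    intro i
    have := hlam'k i
    have hi := i.2
    simp only [hβ, hlamd, rho, Fin.val_rev, Fin.rev_rev]
    omega)
  -- duality for rho
  have hdual2 := alt_dual hconj hy0 (rho r) (fun i => rho r i + k) (r + k - 1) (by
    intro i
    have hi := i.2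
    simp only [rho, Fin.val_rev]
    omega)
  rw [alt_add_const] at hdual2
  -- the phases
  have hphase : Complex.exp (-(2 * Real.pi * Complex.I * (((∑ i, lam i) + (∑ i, lam' i) : ℕ) : ℂ) *
          ((∑ j, w j : ℕ) : ℂ) / ((r : ℂ) * ((r : ℂ) + k)))) * (∏ j, y j) ^ k =
      θ ^ (∑ j, w j) := by
    rw [hθ, zexp_pow, hD, hy, prod_wpt_pow]
    unfold zexp
    rw [← Complex.exp_add]
    congr 1
    have hrc : (r : ℂ) ≠ 0 := by
      have : (0 : ℝ) < (r : ℝ) := by exact_mod_cast hr1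
      exact_mod_cast this.ne'
    have hNc : ((r : ℂ) + k) ≠ 0 := by
      have : (0 : ℝ) < (r : ℝ) + k := by positivity
      exact_mod_cast this.ne'
    push_cast
    field_simp
    ring
  rw [hSa, hSa, hPc, hdual1]
  unfold Eterm
  rw [← hphase]
  set a := alt y α
  set b := conj (alt y β)
  set d := alt y (rho r)
  set Pz := ∏ j, y j
  set ph := Complex.exp (-(2 * Real.pi * Complex.I * (((∑ i, lam i) + (∑ i, lam' i) : ℕ) : ℂ) *
          ((∑ j, w j : ℕ) : ℂ) / ((r : ℂ) * ((r : ℂ) + k))))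
  have he := eps_mul_self r
  -- hdual2 : Pz ^ k * d = eps r * Pz ^ (r + k - 1) * conj d
  calc ph * (a / d) * (eps r * Pz ^ (r + k - 1) * b / d) * (d * conj d)
      = ph * a * b * (eps r * Pz ^ (r + k - 1) * conj d) / d := by
        field_simp
    _ = ph * a * b * (Pz ^ k * d) / d := by rw [← hdual2]
    _ = ph * Pz ^ k * a * b := by
        field_simp

end Groth.Agent.H9.Verlinde
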